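import Mathlib

set_option autoImplicit false

namespace Cfsg.Agent.Lib.Helper3

variable {G : Type*} [Group G] {n : ℕ}

/-- the additive hom `ZMod n →+ Additive G`, `i ↦ x ^ i`, for `x ^ n = 1` -/
noncomputable def dihPow (x : G) (hx : x ^ n = 1) : ZMod n →+ Additive G :=
  ZMod.lift n ⟨zmultiplesHom (Additive G) (Additive.ofMul x), by
    rw [zmultiplesHom_apply]
    rw [← ofMul_zpow, zpow_natCast, hx]
    rfl⟩

theorem dihPow_intCast (x : G) (hx : x ^ n = 1) (k : ℤ) :
    (dihPow x hx (k : ZMod n)).toMul = x ^ k := by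
  unfold dihPow
  rw [ZMod.lift_coe]
  simp only [zmultiplesHom_apply]
  rw [← ofMul_zpow]
  rfl

theorem dihPow_one (x : G) (hx : x ^ n = 1) : (dihPow x hx (1 : ZMod n)).toMul = x := by
  have := dihPow_intCast x hx 1
  simpa using this

theorem dihPow_conj (x s : G) (hx : x ^ n = 1) (hs : s * s = 1) (hsx : s * x * s = x⁻¹)
    (i : ZMod n) : s * (dihPow x hx i).toMul * s = ((dihPow x hx i).toMul)⁻¹ := by
  obtain ⟨k, rfl⟩ := ZMod.intCast_surjective i
  rw [dihPow_intCast]
  have hsi : s⁻¹ = s := inv_eq_of_mul_eq_one_left hs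
  have := @conj_zpow G _ k s x
  rw [hsi, hsx] at this
  rw [← this, inv_zpow]

/-- the homomorphism from the dihedral group determined by a rotation `x` and a reflection `s` -/
noncomputable def dihLift (x s : G) (hx : x ^ n = 1) (hs : s * s = 1) (hsx : s * x * s = x⁻¹) :
    DihedralGroup n →* G where
  toFun
    | .r i => (dihPow x hx i).toMul
    | .sr i => s * (dihPow x hx i).toMul
  map_one' := by
    show (dihPow x hx 0).toMul = 1
    rw [map_zero]; rfl
  map_mul' := by
    have hc := dihPow_conj x s hx hs hsx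
    have hsi : s⁻¹ = s := inv_eq_of_mul_eq_one_left hs
    rintro (i | i) (j | j)
    · show (dihPow x hx (i + j)).toMul = (dihPow x hx i).toMul * (dihPow x hx j).toMul
      rw [map_add]; rfl
    · show s * (dihPow x hx (j - i)).toMul = (dihPow x hx i).toMul * (s * (dihPow x hx j).toMul)
      rw [sub_eq_add_neg, add_comm, map_add, map_neg]
      show s * (((dihPow x hx i).toMul)⁻¹ * (dihPow x hx j).toMul) = _
      rw [← hc i]
      simp only [mul_assoc]
      rw [← mul_assoc s s, hs, one_mul]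
    · show s * (dihPow x hx (i + j)).toMul = s * (dihPow x hx i).toMul * (dihPow x hx j).toMul
      rw [map_add, mul_assoc]; rfl
    · show (dihPow x hx (j - i)).toMul = s * (dihPow x hx i).toMul * (s * (dihPow x hx j).toMul)
      rw [sub_eq_add_neg, add_comm, map_add, map_neg]
      show ((dihPow x hx i).toMul)⁻¹ * (dihPow x hx j).toMul = _
      rw [← hc i]
      simp only [mul_assoc]

theorem dihLift_r (x s : G) (hx : x ^ n = 1) (hs : s * s = 1) (hsx : s * x * s = x⁻¹) (i : ZMod n) :
    dihLift x s hx hs hsx (.r i) = (dihPow x hx i).toMul := rfl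

theorem dihLift_sr (x s : G) (hx : x ^ n = 1) (hs : s * s = 1) (hsx : s * x * s = x⁻¹) (i : ZMod n) :
    dihLift x s hx hs hsx (.sr i) = s * (dihPow x hx i).toMul := rfl

theorem dihLift_r_one (x s : G) (hx : x ^ n = 1) (hs : s * s = 1) (hsx : s * x * s = x⁻¹) :
    dihLift x s hx hs hsx (.r 1) = x := by
  rw [dihLift_r, dihPow_one]

theorem dihLift_sr_zero (x s : G) (hx : x ^ n = 1) (hs : s * s = 1) (hsx : s * x * s = x⁻¹) :
    dihLift x s hx hs hsx (.sr 0) = s := by
  rw [dihLift_sr, map_zero]; exact mul_one s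

theorem dihLift_injective (x s : G) (hx : x ^ n = 1) (hs : s * s = 1) (hsx : s * x * s = x⁻¹)
    (hord : orderOf x = n) (hs' : s ∉ Subgroup.zpowers x) :
    Function.Injective (dihLift x s hx hs hsx) := by
  rw [injective_iff_map_eq_one]
  rintro (i | i) h
  · rw [dihLift_r] at h
    obtain ⟨k, rfl⟩ := ZMod.intCast_surjective i
    rw [dihPow_intCast, ← orderOf_dvd_iff_zpow_eq_one, hord] at h
    rw [(ZMod.intCast_zmod_eq_zero_iff_dvd k n).mpr h]
    rfl
  · exfalso
    rw [dihLift_sr] at h
    obtain ⟨k, rfl⟩ := ZMod.intCast_surjective i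
    rw [dihPow_intCast] at h
    apply hs'
    have : s = (x ^ k)⁻¹ := eq_inv_of_mul_eq_one_left h
    rw [this]
    exact Subgroup.inv_mem _ (Subgroup.zpow_mem_zpowers x k)

theorem dihLift_range (x s : G) (hx : x ^ n = 1) (hs : s * s = 1) (hsx : s * x * s = x⁻¹) :
    (dihLift x s hx hs hsx).range = Subgroup.closure {x, s} := by
  apply le_antisymm
  · rintro _ ⟨(i | i), rfl⟩
    · rw [dihLift_r]
      obtain ⟨k, rfl⟩ := ZMod.intCast_surjective i
      rw [dihPow_intCast]
      exact Subgroup.zpow_mem _ (Subgroup.subset_closure (by simp)) k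
    · rw [dihLift_sr]
      obtain ⟨k, rfl⟩ := ZMod.intCast_surjective i
      rw [dihPow_intCast]
      exact Subgroup.mul_mem _ (Subgroup.subset_closure (by simp))
        (Subgroup.zpow_mem _ (Subgroup.subset_closure (by simp)) k)
  · rw [Subgroup.closure_le]
    rintro y (rfl | rfl)
    · exact ⟨.r 1, dihLift_r_one _ _ hx hs hsx⟩
    · exact ⟨.sr 0, dihLift_sr_zero _ _ hx hs hsx⟩

/-- an explicit map `D₃ → S₃` -/
def d3fun : DihedralGroup 3 → Equiv.Perm (Fin 3)
  | .r i => (finRotate 3) ^ i.val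
  | .sr i => Equiv.swap 1 2 * (finRotate 3) ^ i.val

set_option maxRecDepth 100000 in
theorem d3fun_mul : ∀ a b : DihedralGroup 3, d3fun (a * b) = d3fun a * d3fun b := by decide

set_option maxRecDepth 100000 in
theorem d3fun_bij : Function.Bijective d3fun := by decide

/-- `D₃ ≃* S₃` -/
noncomputable def d3Equiv : DihedralGroup 3 ≃* Equiv.Perm (Fin 3) :=
  MulEquiv.ofBijective (MonoidHom.mk' d3fun d3fun_mul) d3fun_bij

end Cfsg.Agent.Lib.Helper3
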