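import Mathlib

set_option autoImplicit false

/-! One point extensions: a faithful permutation group which is transitive enough and whose point
stabilizer is simple is itself simple (a regular normal subgroup is impossible). -/

namespace Cfsg.Agent.Lib.Helper3

/-- Let `G` act faithfully on `Ω` (at least five points), transitively on ordered pairs of distinct
points, such that the stabilizer of three points `q`, `r`, `t` is transitive on the remaining points.
If the stabilizer of `q` is simple then `G` is simple. -/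
theorem isSimpleGroup_of_isSimpleGroup_stabilizer {G Ω : Type*} [Group G] [MulAction G Ω]
    (hfaith : ∀ g : G, (∀ x : Ω, g • x = x) → g = 1) (q : Ω)
    (h2 : ∀ x y x' y' : Ω, x ≠ y → x' ≠ y' → ∃ g : G, g • x = x' ∧ g • y = y')
    (h4 : ∀ r t s s' : Ω, r ≠ q → t ≠ q → t ≠ r → s ≠ q → s ≠ r → s ≠ t → s' ≠ q → s' ≠ r →
      s' ≠ t → ∃ g : G, g • q = q ∧ g • r = r ∧ g • t = t ∧ g • s = s')
    (hbig : ∀ F : Finset Ω, F.card ≤ 4 → ∃ z, z ∉ F)
    (hs : IsSimpleGroup (MulAction.stabilizer G q)) : IsSimpleGroup G := by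
  classical
  have : Nontrivial G := by
    obtain ⟨a, b, hab⟩ := hs.toNontrivial.exists_pair_ne
    exact ⟨⟨a.1, b.1, fun h => hab (Subtype.ext h)⟩⟩
  apply IsSimpleGroup.mk
  intro N hN
  by_cases hbot : N = ⊥
  · exact Or.inl hbot
  right
  -- `N` moves some point
  obtain ⟨n, hn1⟩ := (Subgroup.ne_bot_iff_exists_ne_one.mp hbot)
  have hn1' : (n : G) ≠ 1 := fun h => hn1 (Subtype.ext h)
  obtain ⟨x0, hx0⟩ : ∃ x : Ω, (n : G) • x ≠ x := by
    by_contra hcon
    push Not at hcon
    exact hn1' (hfaith _ hcon)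
  -- `N` is transitive
  have htrans : ∀ y y' : Ω, ∃ m ∈ N, m • y = y' := by
    intro y y'
    by_cases hyy : y = y'
    · exact ⟨1, N.one_mem, by rw [one_smul, hyy]⟩
    · obtain ⟨g, hg1, hg2⟩ := h2 x0 ((n : G) • x0) y y' (Ne.symm hx0) hyy
      refine ⟨g * n * g⁻¹, hN.conj_mem _ n.2 g, ?_⟩
      have : g⁻¹ • y = x0 := by rw [← hg1, inv_smul_smul]
      rw [mul_smul, mul_smul, this, hg2]
  have hK := hs.eq_bot_or_eq_top_of_normal (N.subgroupOf (MulAction.stabilizer G q))
    (hN.subgroupOf _)
  rcases hK with hK | hK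
  · -- `N` is regular: contradiction
    exfalso
    have hdisj : ∀ a : G, a ∈ N → a • q = q → a = 1 := by
      intro a haN haq
      have : (⟨a, haq⟩ : MulAction.stabilizer G q) ∈ N.subgroupOf (MulAction.stabilizer G q) := by
        rw [Subgroup.mem_subgroupOf]; exact haN
      rw [hK, Subgroup.mem_bot] at this
      exact congrArg Subtype.val this
    have hreg : ∀ a b : G, a ∈ N → b ∈ N → a • q = b • q → a = b := by
      intro a b ha hb hab
      have : a⁻¹ * b = 1 := by
        apply hdisj _ (N.mul_mem (N.inv_mem ha) hb)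
        rw [mul_smul, ← hab, inv_smul_smul]
      have := congrArg (a * ·) this
      simpa using this.symm
    obtain ⟨r, hr⟩ := hbig {q} (by simp)
    have hrq : r ≠ q := fun h => hr (by simp [h])
    obtain ⟨x, hxN, hxq⟩ := htrans q r
    obtain ⟨t, ht⟩ := hbig {q, r, x⁻¹ • q} (le_trans Finset.card_le_three (by norm_num))
    simp only [Finset.mem_insert, Finset.mem_singleton, not_or] at ht
    obtain ⟨htq, htr, htx⟩ := ht
    obtain ⟨y, hyN, hyq⟩ := htrans q t
    have hsq : x • t ≠ q := by
      intro h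
      apply htx
      rw [← h, inv_smul_smul]
    have hsr : x • t ≠ r := by
      intro h
      rw [← hxq] at h
      exact htq (smul_left_cancel x h)
    have hst : x • t ≠ t := by
      intro h
      have h1 : y⁻¹ * x * y = 1 := by
        apply hdisj _ (N.mul_mem (N.mul_mem (N.inv_mem hyN) hxN) hyN)
        rw [mul_smul, mul_smul, hyq, h, ← hyq, inv_smul_smul]
      have hx1 : x = 1 := by
        have := congrArg (fun z => y * z * y⁻¹) h1
        simpa [mul_assoc] using this
      rw [hx1, one_smul] at hxq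
      exact hrq hxq.symm
    obtain ⟨s', hs'⟩ := hbig {q, r, t, x • t} (Finset.card_le_four)
    simp only [Finset.mem_insert, Finset.mem_singleton, not_or] at hs'
    obtain ⟨hs'q, hs'r, hs't, hs's⟩ := hs'
    obtain ⟨g, hgq, hgr, hgt, hgs⟩ := h4 r t (x • t) s' hrq htq htr hsq hsr hst hs'q hs'r hs't
    have hginv : g⁻¹ • q = q := by rw [← hgq, inv_smul_smul, hgq]
    have hcx : g * x * g⁻¹ = x := by
      apply hreg _ _ (hN.conj_mem _ hxN g) hxN
      rw [mul_smul, mul_smul, hginv, hxq, hgr]
    have hcy : g * y * g⁻¹ = y := by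
      apply hreg _ _ (hN.conj_mem _ hyN g) hyN
      rw [mul_smul, mul_smul, hginv, hyq, hgt]
    have : g • (x • t) = x • t := by
      have e : g * x * y = (g * x * g⁻¹) * (g * y * g⁻¹) * g := by group
      rw [← hyq, ← mul_smul, ← mul_smul, e, hcx, hcy, mul_smul, hgq, mul_smul]
    rw [hgs] at this
    exact hs's this
  · -- `N` contains the stabilizer and is transitive
    rw [Subgroup.subgroupOf_eq_top] at hK
    rw [eq_top_iff]
    intro g _
    obtain ⟨m, hmN, hm⟩ := htrans q (g • q)
    have : m⁻¹ * g ∈ MulAction.stabilizer G q := by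
      rw [MulAction.mem_stabilizer_iff, mul_smul, ← hm, inv_smul_smul]
    have := N.mul_mem hmN (hK this)
    rwa [mul_inv_cancel_left] at this

end Cfsg.Agent.Lib.Helper3
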