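import Mathlib

set_option autoImplicit false
set_option linter.unusedSectionVars false

/-! Word length in a group generated by a set of involutions. -/

namespace Cfsg.Agent.Lib.Helper3.WordLen

variable {W : Type*} [Group W] (S : Set W)

/-- a word: a list all of whose letters lie in `S` -/
def IsWord (L : List W) : Prop := ∀ x ∈ L, x ∈ S

variable {S}

theorem isWord_nil : IsWord S ([] : List W) := fun _ h => by simp at h

theorem isWord_cons {s : W} {L : List W} : IsWord S (s :: L) ↔ s ∈ S ∧ IsWord S L := by
  unfold IsWord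
  simp

theorem isWord_append {L L' : List W} : IsWord S (L ++ L') ↔ IsWord S L ∧ IsWord S L' := by
  unfold IsWord
  simp only [List.mem_append]
  constructor
  · intro h
    exact ⟨fun x hx => h x (Or.inl hx), fun x hx => h x (Or.inr hx)⟩
  · rintro ⟨h1, h2⟩ x (hx | hx)
    · exact h1 x hx
    · exact h2 x hx

theorem isWord_singleton {s : W} : IsWord S [s] ↔ s ∈ S := by
  unfold IsWord
  simp

theorem isWord_reverse {L : List W} : IsWord S L.reverse ↔ IsWord S L := by
  unfold IsWord
  simp

theorem IsWord.mono {S' : Set W} (h : S ⊆ S') {L : List W} (hL : IsWord S L) : IsWord S' L :=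
  fun x hx => h (hL x hx)

section invol

variable (hS : ∀ s ∈ S, s * s = 1)
include hS

theorem inv_of_mem {s : W} (hs : s ∈ S) : s⁻¹ = s := inv_eq_of_mul_eq_one_left (hS s hs)

theorem prod_reverse {L : List W} (hL : IsWord S L) : L.reverse.prod = (L.prod)⁻¹ := by
  induction L with
  | nil => simp
  | cons s L ih =>
    rw [isWord_cons] at hL
    rw [List.reverse_cons, List.prod_append, ih hL.2, List.prod_cons, List.prod_cons, List.prod_nil,
      mul_one, mul_inv_rev, inv_of_mem hS hL.1]

/-- every element of the closure of a set of involutions is the product of a word -/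
theorem exists_word_of_mem_closure {w : W} (hw : w ∈ Subgroup.closure S) :
    ∃ L, IsWord S L ∧ L.prod = w := by
  induction hw using Subgroup.closure_induction with
  | mem x hx => exact ⟨[x], isWord_singleton.mpr hx, by simp⟩
  | one => exact ⟨[], isWord_nil, rfl⟩
  | mul x y _ _ hx hy =>
    obtain ⟨L, hL, rfl⟩ := hx
    obtain ⟨L', hL', rfl⟩ := hy
    exact ⟨L ++ L', isWord_append.mpr ⟨hL, hL'⟩, List.prod_append⟩
  | inv x _ hx =>
    obtain ⟨L, hL, rfl⟩ := hx
    exact ⟨L.reverse, isWord_reverse.mpr hL, prod_reverse hS hL⟩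

end invol

theorem prod_mem_closure {L : List W} (hL : IsWord S L) : L.prod ∈ Subgroup.closure S := by
  induction L with
  | nil => simp
  | cons s L ih =>
    rw [isWord_cons] at hL
    rw [List.prod_cons]
    exact Subgroup.mul_mem _ (Subgroup.subset_closure hL.1) (ih hL.2)

variable (S)

/-- word length with respect to `S` (meaningful when `S` generates) -/
noncomputable def len (w : W) : ℕ := sInf {k | ∃ L, IsWord S L ∧ L.prod = w ∧ L.length = k}

variable {S}

theorem len_le_of_word {L : List W} (hL : IsWord S L) : len S L.prod ≤ L.length :=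
  Nat.sInf_le ⟨L, hL, rfl, rfl⟩

section gen

variable (hS : ∀ s ∈ S, s * s = 1) (hgen : Subgroup.closure S = ⊤)
include hS hgen

theorem exists_word (w : W) : ∃ L, IsWord S L ∧ L.prod = w :=
  exists_word_of_mem_closure hS (by rw [hgen]; trivial)

theorem exists_reduced (w : W) : ∃ L, IsWord S L ∧ L.prod = w ∧ L.length = len S w := by
  have hne : {k | ∃ L, IsWord S L ∧ L.prod = w ∧ L.length = k}.Nonempty := by
    obtain ⟨L, hL, hw⟩ := exists_word hS hgen w
    exact ⟨L.length, L, hL, hw, rfl⟩
  exact Nat.sInf_mem hne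

omit hS hgen in
theorem len_one : len S (1 : W) = 0 := by
  have := len_le_of_word (S := S) (isWord_nil)
  simpa using this

theorem len_eq_zero_iff {w : W} : len S w = 0 ↔ w = 1 := by
  constructor
  · intro h
    obtain ⟨L, -, hw, hlen⟩ := exists_reduced hS hgen w
    rw [h, List.length_eq_zero_iff] at hlen
    rw [← hw, hlen, List.prod_nil]
  · rintro rfl
    exact len_one

theorem len_mul_le {s : W} (hs : s ∈ S) (w : W) : len S (s * w) ≤ len S w + 1 := by
  obtain ⟨L, hL, hw, hlen⟩ := exists_reduced hS hgen w
  have := len_le_of_word (S := S) (isWord_cons.mpr ⟨hs, hL⟩)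
  rw [List.prod_cons, hw, List.length_cons, hlen] at this
  exact this

theorem len_le_mul {s : W} (hs : s ∈ S) (w : W) : len S w ≤ len S (s * w) + 1 := by
  have := len_mul_le hS hgen hs (s * w)
  rwa [← mul_assoc, hS s hs, one_mul] at this

theorem len_inv (w : W) : len S w⁻¹ = len S w := by
  have key : ∀ w : W, len S w⁻¹ ≤ len S w := by
    intro w
    obtain ⟨L, hL, hw, hlen⟩ := exists_reduced hS hgen w
    have := len_le_of_word (S := S) (isWord_reverse.mpr hL)
    rw [prod_reverse hS hL, hw, List.length_reverse, hlen] at this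
    exact this
  apply le_antisymm (key w)
  have := key w⁻¹
  rwa [inv_inv] at this

theorem len_mul_le' {s : W} (hs : s ∈ S) (w : W) : len S (w * s) ≤ len S w + 1 := by
  have := len_mul_le hS hgen hs w⁻¹
  rw [len_inv hS hgen] at this
  have h2 : (s * w⁻¹) = (w * s)⁻¹ := by rw [mul_inv_rev, inv_of_mem hS hs]
  rwa [h2, len_inv hS hgen] at this

theorem len_le_mul' {s : W} (hs : s ∈ S) (w : W) : len S w ≤ len S (w * s) + 1 := by
  have := len_mul_le' hS hgen hs (w * s)
  rwa [mul_assoc, hS s hs, mul_one] at this

/-- an element of positive length can be shortened on the left -/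
theorem exists_cons {w : W} {q : ℕ} (h : len S w = q + 1) : ∃ s ∈ S, len S (s * w) = q := by
  obtain ⟨L, hL, hw, hlen⟩ := exists_reduced hS hgen w
  rw [h] at hlen
  match L, hL, hw, hlen with
  | s :: L', hL, hw, hlen =>
    rw [isWord_cons] at hL
    refine ⟨s, hL.1, ?_⟩
    have h1 : s * w = L'.prod := by
      rw [← hw, List.prod_cons, ← mul_assoc, hS s hL.1, one_mul]
    have h2 : len S (s * w) ≤ q := by
      rw [h1]
      have := len_le_of_word (S := S) hL.2
      simp only [List.length_cons, Nat.add_right_cancel_iff] at hlen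
      rwa [hlen] at this
    have h3 := len_le_mul hS hgen hL.1 w
    omega

/-- an element of positive length can be shortened on the right -/
theorem exists_snoc {w : W} {q : ℕ} (h : len S w = q + 1) : ∃ s ∈ S, len S (w * s) = q := by
  have h' : len S w⁻¹ = q + 1 := by rw [len_inv hS hgen, h]
  obtain ⟨s, hs, hq⟩ := exists_cons hS hgen h'
  refine ⟨s, hs, ?_⟩
  have h2 : (s * w⁻¹) = (w * s)⁻¹ := by rw [mul_inv_rev, inv_of_mem hS hs]
  rwa [h2, len_inv hS hgen] at hq

theorem len_gen {s : W} (hs : s ∈ S) (h1 : s ≠ 1) : len S s = 1 := by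
  have h2 : len S s ≤ 1 := by
    have := len_le_of_word (S := S) (isWord_singleton.mpr hs)
    simpa using this
  have h3 : len S s ≠ 0 := fun h => h1 ((len_eq_zero_iff hS hgen).mp h)
  omega

end gen

end Cfsg.Agent.Lib.Helper3.WordLen
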