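import Mathlib
import Cfsg.Prelude.Def_LieExceptional
import Cfsg.Agent.Lib.Helper3.WordLen

set_option autoImplicit false
set_option linter.unusedSectionVars false

/-! (B,N)-pairs: basic double coset calculus at the level of the group `G`. -/

namespace Cfsg.Agent.Lib.Helper3.BN

open Cfsg

variable {G : Type*} [Group G] (P : Cfsg.BNPair G)

/-- the double coset `B n B` -/
abbrev dc (n : G) : Set G := DoubleCoset.doubleCoset n (P.B : Set G) P.B

theorem mem_dc {n g : G} : g ∈ dc P n ↔ ∃ b ∈ P.B, ∃ b' ∈ P.B, g = b * n * b' :=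
  DoubleCoset.mem_doubleCoset

theorem self_mem_dc (n : G) : n ∈ dc P n := DoubleCoset.mem_doubleCoset_self P.B P.B n

theorem dc_eq_of_mem {n g : G} (h : g ∈ dc P n) : dc P g = dc P n :=
  DoubleCoset.doubleCoset_eq_of_mem h

theorem dc_mul_left {n g b : G} (h : g ∈ dc P n) (hb : b ∈ P.B) : b * g ∈ dc P n := by
  rw [mem_dc] at h ⊢
  obtain ⟨b1, hb1, b2, hb2, rfl⟩ := h
  exact ⟨b * b1, P.B.mul_mem hb hb1, b2, hb2, by simp only [mul_assoc]⟩

theorem dc_mul_right {n g b : G} (h : g ∈ dc P n) (hb : b ∈ P.B) : g * b ∈ dc P n := by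
  rw [mem_dc] at h ⊢
  obtain ⟨b1, hb1, b2, hb2, rfl⟩ := h
  exact ⟨b1, hb1, b2 * b, P.B.mul_mem hb2 hb, by simp only [mul_assoc]⟩

theorem dc_inv {n g : G} (h : g ∈ dc P n) : g⁻¹ ∈ dc P n⁻¹ := by
  rw [mem_dc] at h ⊢
  obtain ⟨b1, hb1, b2, hb2, rfl⟩ := h
  exact ⟨b2⁻¹, P.B.inv_mem hb2, b1⁻¹, P.B.inv_mem hb1, by simp only [mul_inv_rev, mul_assoc]⟩

theorem dc_eq_of_mul_right {n b : G} (hb : b ∈ P.B) : dc P (n * b) = dc P n :=
  dc_eq_of_mem P (dc_mul_right P (self_mem_dc P n) hb)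

theorem dc_eq_of_mul_left {n b : G} (hb : b ∈ P.B) : dc P (b * n) = dc P n :=
  dc_eq_of_mem P (dc_mul_left P (self_mem_dc P n) hb)

theorem dc_of_mem_B {b : G} (hb : b ∈ P.B) : dc P b = (P.B : Set G) := by
  ext g
  rw [mem_dc]
  constructor
  · rintro ⟨b1, hb1, b2, hb2, rfl⟩
    exact P.B.mul_mem (P.B.mul_mem hb1 hb) hb2
  · intro hg
    exact ⟨g * b⁻¹, P.B.mul_mem hg (P.B.inv_mem hb), 1, P.B.one_mem, by simp⟩

theorem dc_one : dc P 1 = (P.B : Set G) := dc_of_mem_B P P.B.one_mem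

theorem mem_B_of_dc_eq_B {n : G} (h : dc P n = (P.B : Set G)) : n ∈ P.B := by
  have := self_mem_dc P n
  rw [h] at this
  exact this

/-- two double cosets with a common element coincide -/
theorem dc_eq_of_common {n n' g : G} (h : g ∈ dc P n) (h' : g ∈ dc P n') : dc P n = dc P n' := by
  rw [← dc_eq_of_mem P h, ← dc_eq_of_mem P h']

theorem S_sub_N {s : G} (hs : s ∈ P.S) : s ∈ P.N := P.subset hs

theorem sq_inv_mem_B {s : G} (hs : s ∈ P.S) : (s * s)⁻¹ ∈ P.B := P.B.inv_mem (P.sq_mem s hs)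

theorem inv_eq_mul {s : G} : s⁻¹ = s * (s * s)⁻¹ := by group

theorem inv_eq_mul' {s : G} : s⁻¹ = (s * s)⁻¹ * s := by group

/-- the axiom, for arbitrary elements of the double coset -/
theorem axiom_left {s n g : G} (hs : s ∈ P.S) (hn : n ∈ P.N) (hg : g ∈ dc P n) :
    s * g ∈ dc P (s * n) ∪ dc P n := by
  rw [mem_dc] at hg
  obtain ⟨b1, hb1, b2, hb2, rfl⟩ := hg
  have := P.mul_mem_union s hs n hn b1 hb1
  rcases this with h | h
  · left
    have := dc_mul_right P h hb2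
    simpa only [mul_assoc] using this
  · right
    have := dc_mul_right P h hb2
    simpa only [mul_assoc] using this

theorem axiom_left_inv {s n g : G} (hs : s ∈ P.S) (hn : n ∈ P.N) (hg : g ∈ dc P n) :
    s⁻¹ * g ∈ dc P (s * n) ∪ dc P n := by
  have h1 : (s * s)⁻¹ * g ∈ dc P n := dc_mul_left P hg (sq_inv_mem_B P hs)
  have := axiom_left P hs hn h1
  rw [← mul_assoc, ← inv_eq_mul] at this
  exact this

theorem dc_mul_S_inv {s n : G} (hs : s ∈ P.S) : dc P (n * s⁻¹) = dc P (n * s) := by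
  have : n * s⁻¹ = (n * s) * (s * s)⁻¹ := by group
  rw [this]
  exact dc_eq_of_mul_right P (sq_inv_mem_B P hs)

theorem dc_S_inv_mul {s n : G} (hs : s ∈ P.S) : dc P (s⁻¹ * n) = dc P (s * n) := by
  have : s⁻¹ * n = (s * s)⁻¹ * (s * n) := by group
  rw [this]
  exact dc_eq_of_mul_left P (sq_inv_mem_B P hs)

theorem axiom_right {s n g : G} (hs : s ∈ P.S) (hn : n ∈ P.N) (hg : g ∈ dc P n) :
    g * s ∈ dc P (n * s) ∪ dc P n := by
  have h1 := dc_inv P hg
  have h2 := axiom_left_inv P hs (P.N.inv_mem hn) h1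
  rcases h2 with h | h
  · left
    have := dc_inv P h
    rw [mul_inv_rev, inv_inv, mul_inv_rev, inv_inv, inv_inv, dc_mul_S_inv P hs] at this
    exact this
  · right
    have := dc_inv P h
    rw [mul_inv_rev, inv_inv, inv_inv, inv_inv] at this
    exact this

theorem axiom_right_inv {s n g : G} (hs : s ∈ P.S) (hn : n ∈ P.N) (hg : g ∈ dc P n) :
    g * s⁻¹ ∈ dc P (n * s) ∪ dc P n := by
  have h1 : g * (s * s)⁻¹ ∈ dc P n := dc_mul_right P hg (sq_inv_mem_B P hs)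
  have := axiom_right P hs hn h1
  rw [mul_assoc, ← inv_eq_mul'] at this
  exact this

/-- the subgroup of elements `g` with `g X ⊆ X` and `g⁻¹ X ⊆ X` -/
def stab (X : Set G) : Subgroup G where
  carrier := {g | (∀ x ∈ X, g * x ∈ X) ∧ (∀ x ∈ X, g⁻¹ * x ∈ X)}
  mul_mem' := by
    rintro a b ⟨ha1, ha2⟩ ⟨hb1, hb2⟩
    refine ⟨fun x hx => ?_, fun x hx => ?_⟩
    · rw [mul_assoc]; exact ha1 _ (hb1 _ hx)
    · rw [mul_inv_rev, mul_assoc]; exact hb2 _ (ha2 _ hx)
  one_mem' := by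
    refine ⟨fun x hx => ?_, fun x hx => ?_⟩
    · rwa [one_mul]
    · rwa [inv_one, one_mul]
  inv_mem' := by
    rintro a ⟨ha1, ha2⟩
    refine ⟨ha2, fun x hx => ?_⟩
    rw [inv_inv]; exact ha1 x hx

theorem mem_stab {X : Set G} {g : G} :
    g ∈ stab X ↔ (∀ x ∈ X, g * x ∈ X) ∧ (∀ x ∈ X, g⁻¹ * x ∈ X) := Iff.rfl

theorem mem_of_mem_stab {X : Set G} {g : G} (h1 : (1 : G) ∈ X) (hg : g ∈ stab X) : g ∈ X := by
  have := hg.1 1 h1
  rwa [mul_one] at this

/-- for a set `J ⊆ S`, the union of the double cosets `B n B`, `n ∈ ⟨J⟩` -/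
def cells (J : Set G) : Set G := {g | ∃ n ∈ Subgroup.closure J, g ∈ dc P n}

theorem closure_le_N {J : Set G} (hJ : J ⊆ P.S) : Subgroup.closure J ≤ P.N := by
  rw [Subgroup.closure_le]
  exact fun x hx => P.subset (hJ hx)

theorem parabolic_le_stab_cells {J : Set G} (hJ : J ⊆ P.S) : P.parabolic J ≤ stab (cells P J) := by
  unfold BNPair.parabolic
  apply sup_le
  · intro b hb
    refine ⟨?_, ?_⟩
    · rintro x ⟨n, hn, hx⟩
      exact ⟨n, hn, dc_mul_left P hx hb⟩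
    · rintro x ⟨n, hn, hx⟩
      exact ⟨n, hn, dc_mul_left P hx (P.B.inv_mem hb)⟩
  · rw [Subgroup.closure_le]
    intro s hs
    have hsS : s ∈ P.S := hJ hs
    refine ⟨?_, ?_⟩
    · rintro x ⟨n, hn, hx⟩
      have hnN : n ∈ P.N := closure_le_N P hJ hn
      rcases axiom_left P hsS hnN hx with h | h
      · exact ⟨s * n, Subgroup.mul_mem _ (Subgroup.subset_closure hs) hn, h⟩
      · exact ⟨n, hn, h⟩
    · rintro x ⟨n, hn, hx⟩
      have hnN : n ∈ P.N := closure_le_N P hJ hn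
      rcases axiom_left_inv P hsS hnN hx with h | h
      · exact ⟨s * n, Subgroup.mul_mem _ (Subgroup.subset_closure hs) hn, h⟩
      · exact ⟨n, hn, h⟩

/-- `P_J = B ⟨J⟩ B` -/
theorem mem_parabolic_iff {J : Set G} (hJ : J ⊆ P.S) (g : G) :
    g ∈ P.parabolic J ↔ ∃ n ∈ Subgroup.closure J, g ∈ dc P n := by
  constructor
  · intro hg
    have h1 : (1 : G) ∈ cells P J := ⟨1, Subgroup.one_mem _, by rw [dc_one]; exact P.B.one_mem⟩
    show g ∈ cells P J
    exact mem_of_mem_stab h1 (parabolic_le_stab_cells P hJ hg)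
  · rintro ⟨n, hn, hg⟩
    rw [mem_dc] at hg
    obtain ⟨b1, hb1, b2, hb2, rfl⟩ := hg
    have hB : P.B ≤ P.parabolic J := le_sup_left
    have hJ' : Subgroup.closure J ≤ P.parabolic J := le_sup_right
    exact Subgroup.mul_mem _ (Subgroup.mul_mem _ (hB hb1) (hJ' hn)) (hB hb2)

theorem closure_S_sup_B_eq_top : Subgroup.closure P.S ⊔ P.B = ⊤ := by
  rw [eq_top_iff, ← P.sup_eq_top]
  apply sup_le le_sup_right
  rw [← P.closure_sup]
  apply sup_le le_sup_left
  exact le_trans inf_le_left le_sup_right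

theorem parabolic_S : P.parabolic P.S = ⊤ := by
  unfold BNPair.parabolic
  rw [sup_comm]
  exact closure_S_sup_B_eq_top P

/-- Bruhat decomposition, existence -/
theorem exists_dc (g : G) : ∃ n ∈ P.N, g ∈ dc P n := by
  have hg : g ∈ P.parabolic P.S := by rw [parabolic_S]; trivial
  obtain ⟨n, hn, hg⟩ := (mem_parabolic_iff P (subset_refl _) g).mp hg
  exact ⟨n, closure_le_N P (subset_refl _) hn, hg⟩

end Cfsg.Agent.Lib.Helper3.BN
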