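import Mathlib
import Cfsg.Prelude.Def_LieExceptional
import Cfsg.Agent.Lib.Helper3.WordLen
import Cfsg.Agent.Lib.Helper3.BNBasic

set_option autoImplicit false
set_option linter.unusedSectionVars false

/-! (B,N)-pairs: the Weyl group `W = N / (B ⊓ N)` and the cells `C(w)`. -/

namespace Cfsg.Agent.Lib.Helper3.BN

open Cfsg WordLen

variable {G : Type*} [Group G] (P : Cfsg.BNPair G)

instance T_normal : ((P.B ⊓ P.N).subgroupOf P.N).Normal := by
  constructor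
  intro t ht n
  rw [Subgroup.mem_subgroupOf] at ht ⊢
  refine ⟨?_, ?_⟩
  · have := P.conj_mem n n.2 t ht
    simpa using this
  · exact (n * t * n⁻¹).2

/-- the Weyl group -/
abbrev W : Type _ := P.N ⧸ (P.B ⊓ P.N).subgroupOf P.N

/-- the class in `W` of an element of `N` -/
def mkW (n : G) (hn : n ∈ P.N) : W P := QuotientGroup.mk (⟨n, hn⟩ : P.N)

theorem mkW_surj (w : W P) : ∃ n, ∃ hn : n ∈ P.N, mkW P n hn = w := by
  obtain ⟨⟨n, hn⟩, rfl⟩ := QuotientGroup.mk_surjective w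
  exact ⟨n, hn, rfl⟩

theorem mkW_mul {n n' : G} (hn : n ∈ P.N) (hn' : n' ∈ P.N) :
    mkW P (n * n') (P.N.mul_mem hn hn') = mkW P n hn * mkW P n' hn' := rfl

theorem mkW_inv {n : G} (hn : n ∈ P.N) :
    mkW P n⁻¹ (P.N.inv_mem hn) = (mkW P n hn)⁻¹ := rfl

theorem mkW_one : mkW P 1 P.N.one_mem = 1 := rfl

theorem mkW_eq_iff {n n' : G} (hn : n ∈ P.N) (hn' : n' ∈ P.N) :
    mkW P n hn = mkW P n' hn' ↔ n⁻¹ * n' ∈ P.B := by
  unfold mkW
  rw [QuotientGroup.eq, Subgroup.mem_subgroupOf]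
  constructor
  · intro h
    exact h.1
  · intro h
    exact ⟨h, P.N.mul_mem (P.N.inv_mem hn) hn'⟩

theorem mkW_eq_one_iff {n : G} (hn : n ∈ P.N) : mkW P n hn = 1 ↔ n ∈ P.B := by
  rw [← mkW_one, mkW_eq_iff]
  constructor
  · intro h
    have := P.B.inv_mem h
    simpa using this
  · intro h
    have := P.B.inv_mem h
    simpa using this

/-- the cell `C(w) = B w B` -/
def C (w : W P) : Set G := {g | ∃ n, ∃ hn : n ∈ P.N, mkW P n hn = w ∧ g ∈ dc P n}

theorem C_mk {n : G} (hn : n ∈ P.N) : C P (mkW P n hn) = dc P n := by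
  ext g
  constructor
  · rintro ⟨n', hn', he, hg⟩
    rw [mkW_eq_iff] at he
    have : n = n' * (n'⁻¹ * n) := by group
    rw [this, dc_eq_of_mul_right P he]
    exact hg
  · intro hg
    exact ⟨n, hn, rfl, hg⟩

theorem mem_C_mk {n g : G} (hn : n ∈ P.N) : g ∈ C P (mkW P n hn) ↔ g ∈ dc P n := by
  rw [C_mk]

theorem self_mem_C {n : G} (hn : n ∈ P.N) : n ∈ C P (mkW P n hn) := by
  rw [C_mk]; exact self_mem_dc P n

theorem C_one : C P 1 = (P.B : Set G) := by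
  rw [← mkW_one, C_mk, dc_one]

theorem C_nonempty (w : W P) : (C P w).Nonempty := by
  obtain ⟨n, hn, rfl⟩ := mkW_surj P w
  exact ⟨n, self_mem_C P hn⟩

theorem C_mul_left {w : W P} {g b : G} (h : g ∈ C P w) (hb : b ∈ P.B) : b * g ∈ C P w := by
  obtain ⟨n, hn, rfl⟩ := mkW_surj P w
  rw [mem_C_mk] at h ⊢
  exact dc_mul_left P h hb

theorem C_mul_right {w : W P} {g b : G} (h : g ∈ C P w) (hb : b ∈ P.B) : g * b ∈ C P w := by
  obtain ⟨n, hn, rfl⟩ := mkW_surj P w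
  rw [mem_C_mk] at h ⊢
  exact dc_mul_right P h hb

theorem C_inv {w : W P} {g : G} (h : g ∈ C P w) : g⁻¹ ∈ C P w⁻¹ := by
  obtain ⟨n, hn, rfl⟩ := mkW_surj P w
  rw [← mkW_inv, mem_C_mk]
  rw [mem_C_mk] at h
  exact dc_inv P h

/-- cells with a common element coincide -/
theorem C_eq_of_common {w w' : W P} {g : G} (h : g ∈ C P w) (h' : g ∈ C P w') : C P w = C P w' := by
  obtain ⟨n, hn, rfl⟩ := mkW_surj P w
  obtain ⟨n', hn', rfl⟩ := mkW_surj P w'
  rw [C_mk] at h h' ⊢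
  rw [C_mk]
  exact dc_eq_of_common P h h'

theorem exists_C (g : G) : ∃ w, g ∈ C P w := by
  obtain ⟨n, hn, hg⟩ := exists_dc P g
  exact ⟨mkW P n hn, by rwa [C_mk]⟩

/-- the distinguished generators of `W` -/
def Sbar : Set (W P) := {w | ∃ s, ∃ hs : s ∈ P.S, mkW P s (P.subset hs) = w}

theorem mkW_mem_Sbar {s : G} (hs : s ∈ P.S) : mkW P s (P.subset hs) ∈ Sbar P := ⟨s, hs, rfl⟩

theorem S_not_mem_B {s : G} (hs : s ∈ P.S) : s ∉ P.B := by
  intro hB
  apply P.conj_ne s hs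
  ext g
  constructor
  · rintro ⟨b, hb, rfl⟩
    exact P.B.mul_mem (P.B.mul_mem hB hb) hB
  · intro hg
    refine ⟨s⁻¹ * g * s⁻¹, ?_, by group⟩
    exact P.B.mul_mem (P.B.mul_mem (P.B.inv_mem hB) hg) (P.B.inv_mem hB)

theorem Sbar_sq : ∀ s ∈ Sbar P, s * s = 1 := by
  rintro _ ⟨s, hs, rfl⟩
  rw [← mkW_mul, mkW_eq_one_iff]
  exact P.sq_mem s hs

theorem Sbar_ne_one : ∀ s ∈ Sbar P, s ≠ 1 := by
  rintro _ ⟨s, hs, rfl⟩ h
  rw [mkW_eq_one_iff] at h
  exact S_not_mem_B P hs h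

theorem Sbar_inj {s s' : G} (hs : s ∈ P.S) (hs' : s' ∈ P.S)
    (h : mkW P s (P.subset hs) = mkW P s' (P.subset hs')) : s = s' := by
  rw [mkW_eq_iff] at h
  exact P.inj s hs s' hs' h

/-- the image in `W` of the subgroup generated by `J ⊆ S` is generated by the images -/
theorem mkW_mem_closure {J : Set G} (hJ : J ⊆ P.S) {n : G} (hn : n ∈ Subgroup.closure J) :
    mkW P n (closure_le_N P hJ hn) ∈
      Subgroup.closure {w | ∃ s, ∃ hs : s ∈ J, mkW P s (P.subset (hJ hs)) = w} := by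
  have key : ∀ n (hn : n ∈ Subgroup.closure J), ∀ hN : n ∈ P.N, mkW P n hN ∈
      Subgroup.closure {w | ∃ s, ∃ hs : s ∈ J, mkW P s (P.subset (hJ hs)) = w} := by
    intro n hn
    induction hn using Subgroup.closure_induction with
    | mem x hx => intro hN; exact Subgroup.subset_closure ⟨x, hx, rfl⟩
    | one => intro hN; exact Subgroup.one_mem _
    | mul x y hx hy ihx ihy =>
      intro hN
      have hxN := closure_le_N P hJ hx
      have hyN := closure_le_N P hJ hy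
      have : mkW P (x * y) hN = mkW P x hxN * mkW P y hyN := rfl
      rw [this]
      exact Subgroup.mul_mem _ (ihx hxN) (ihy hyN)
    | inv x hx ihx =>
      intro hN
      have hxN := closure_le_N P hJ hx
      have : mkW P x⁻¹ hN = (mkW P x hxN)⁻¹ := rfl
      rw [this]
      exact Subgroup.inv_mem _ (ihx hxN)
  exact key n hn _

theorem exists_decomp {n : G} (hn' : n ∈ Subgroup.closure P.S ⊔ (P.B ⊓ P.N)) :
    ∃ x ∈ Subgroup.closure P.S, ∃ t ∈ P.B ⊓ P.N, n = x * t := by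
  have hnorm : ∀ x ∈ P.N, ∀ t ∈ P.B ⊓ P.N, x * t * x⁻¹ ∈ P.B ⊓ P.N := by
    intro x hx t ht
    exact ⟨P.conj_mem x hx t ht, P.N.mul_mem (P.N.mul_mem hx ht.2) (P.N.inv_mem hx)⟩
  rw [Subgroup.sup_eq_closure] at hn'
  induction hn' using Subgroup.closure_induction with
  | mem y hy =>
    rcases hy with hy | hy
    · exact ⟨y, hy, 1, Subgroup.one_mem _, by simp⟩
    · exact ⟨1, Subgroup.one_mem _, y, hy, by simp⟩
  | one => exact ⟨1, Subgroup.one_mem _, 1, Subgroup.one_mem _, by simp⟩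
  | mul y z hy hz ihy ihz =>
    obtain ⟨x1, hx1, t1, ht1, rfl⟩ := ihy
    obtain ⟨x2, hx2, t2, ht2, rfl⟩ := ihz
    have hx2N : x2 ∈ P.N := closure_le_N P (subset_refl _) hx2
    refine ⟨x1 * x2, Subgroup.mul_mem _ hx1 hx2, (x2⁻¹ * t1 * x2⁻¹⁻¹) * t2,
      Subgroup.mul_mem _ (hnorm _ (P.N.inv_mem hx2N) _ ht1) ht2, by group⟩
  | inv y hy ihy =>
    obtain ⟨x1, hx1, t1, ht1, rfl⟩ := ihy
    have hx1N : x1 ∈ P.N := closure_le_N P (subset_refl _) hx1
    refine ⟨x1⁻¹, Subgroup.inv_mem _ hx1, x1 * t1⁻¹ * x1⁻¹,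
      hnorm _ hx1N _ (Subgroup.inv_mem _ ht1), by group⟩

theorem Sbar_closure : Subgroup.closure (Sbar P) = ⊤ := by
  rw [eq_top_iff]
  intro w _
  obtain ⟨n, hn, rfl⟩ := mkW_surj P w
  have hn' : n ∈ Subgroup.closure P.S ⊔ (P.B ⊓ P.N) := by rw [P.closure_sup]; exact hn
  obtain ⟨x, hx, t, ht, rfl⟩ := exists_decomp P hn'
  have hxN : x ∈ P.N := closure_le_N P (subset_refl _) hx
  have e1 : mkW P (x * t) hn = mkW P x hxN := by
    rw [mkW_eq_iff]
    have : (x * t)⁻¹ * x = t⁻¹ := by group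
    rw [this]
    exact P.B.inv_mem ht.1
  rw [e1]
  have := mkW_mem_closure P (subset_refl P.S) hx
  exact this

end Cfsg.Agent.Lib.Helper3.BN
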