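import Mathlib
import Cfsg.Prelude.Def_LieExceptional
import Cfsg.Agent.Lib.Helper3.WordLen
import Cfsg.Agent.Lib.Helper3.BNBasic
import Cfsg.Agent.Lib.Helper3.BNWeyl

set_option autoImplicit false
set_option linter.unusedSectionVars false

/-! (B,N)-pairs: uniqueness in the Bruhat decomposition, multiplication of cells, exchange condition. -/

namespace Cfsg.Agent.Lib.Helper3.BN

open Cfsg WordLen

variable {G : Type*} [Group G] (P : Cfsg.BNPair G)

/-- the class of a distinguished generator -/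
def sb (s : G) (hs : s ∈ P.S) : W P := mkW P s (P.subset hs)

theorem sb_mem {s : G} (hs : s ∈ P.S) : sb P s hs ∈ Sbar P := ⟨s, hs, rfl⟩

theorem sb_sq {s : G} (hs : s ∈ P.S) : sb P s hs * sb P s hs = 1 := Sbar_sq P _ (sb_mem P hs)

theorem sb_ne_one {s : G} (hs : s ∈ P.S) : sb P s hs ≠ 1 := Sbar_ne_one P _ (sb_mem P hs)

theorem sb_mul_cancel {s : G} (hs : s ∈ P.S) (w : W P) : sb P s hs * (sb P s hs * w) = w := by
  rw [← mul_assoc, sb_sq, one_mul]

theorem mul_sb_cancel {s : G} (hs : s ∈ P.S) (w : W P) : w * sb P s hs * sb P s hs = w := by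
  rw [mul_assoc, sb_sq, mul_one]

local notation "ℓ" => len (Sbar P)

theorem W_axiom_left {s : G} (hs : s ∈ P.S) {w : W P} {g : G} (hg : g ∈ C P w) :
    s * g ∈ C P (sb P s hs * w) ∪ C P w := by
  obtain ⟨n, hn, rfl⟩ := mkW_surj P w
  rw [mem_C_mk] at hg
  have := axiom_left P hs hn hg
  rw [sb, ← mkW_mul, C_mk, C_mk]
  exact this

theorem W_axiom_left_inv {s : G} (hs : s ∈ P.S) {w : W P} {g : G} (hg : g ∈ C P w) :
    s⁻¹ * g ∈ C P (sb P s hs * w) ∪ C P w := by
  obtain ⟨n, hn, rfl⟩ := mkW_surj P w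
  rw [mem_C_mk] at hg
  have := axiom_left_inv P hs hn hg
  rw [sb, ← mkW_mul, C_mk, C_mk]
  exact this

theorem W_axiom_right {s : G} (hs : s ∈ P.S) {w : W P} {g : G} (hg : g ∈ C P w) :
    g * s ∈ C P (w * sb P s hs) ∪ C P w := by
  obtain ⟨n, hn, rfl⟩ := mkW_surj P w
  rw [mem_C_mk] at hg
  have := axiom_right P hs hn hg
  rw [sb, ← mkW_mul, C_mk, C_mk]
  exact this

theorem W_axiom_right_inv {s : G} (hs : s ∈ P.S) {w : W P} {g : G} (hg : g ∈ C P w) :
    g * s⁻¹ ∈ C P (w * sb P s hs) ∪ C P w := by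
  obtain ⟨n, hn, rfl⟩ := mkW_surj P w
  rw [mem_C_mk] at hg
  have := axiom_right_inv P hs hn hg
  rw [sb, ← mkW_mul, C_mk, C_mk]
  exact this

theorem exists_sb_of_mem {t : W P} (ht : t ∈ Sbar P) : ∃ s, ∃ hs : s ∈ P.S, sb P s hs = t := ht

theorem C_inj_aux : ∀ q, ∀ w w' : W P, ℓ w = q → ℓ w ≤ ℓ w' → C P w = C P w' → w = w' := by
  have hS := Sbar_sq P
  have hgen := Sbar_closure P
  intro q
  induction q with
  | zero =>
    intro w w' hq _ hC
    rw [len_eq_zero_iff hS hgen] at hq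
    subst hq
    obtain ⟨n, hn, rfl⟩ := mkW_surj P w'
    rw [C_one, C_mk] at hC
    symm
    rw [mkW_eq_one_iff]
    exact mem_B_of_dc_eq_B P hC.symm
  | succ q ih =>
    intro w w' hq hle hC
    obtain ⟨t, ht, hlen⟩ := exists_cons hS hgen hq
    obtain ⟨s, hs, rfl⟩ := exists_sb_of_mem P ht
    set w'' := sb P s hs * w with hw''
    have hw : w = sb P s hs * w'' := by rw [hw'', sb_mul_cancel]
    obtain ⟨n'', hn'', hn''w⟩ := mkW_surj P w''
    have h1 : s * n'' ∈ C P w := by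
      have := self_mem_C P (P.N.mul_mem (P.subset hs) hn'')
      rw [mkW_mul P (P.subset hs) hn'', hn''w] at this
      rw [hw]; exact this
    rw [hC] at h1
    have h2 := W_axiom_left_inv P hs h1
    rw [inv_mul_cancel_left] at h2
    have h3 : n'' ∈ C P w'' := by rw [← hn''w]; exact self_mem_C P hn''
    rcases h2 with h2 | h2
    · have hCeq := C_eq_of_common P h3 h2
      have hle2 : ℓ w'' ≤ ℓ (sb P s hs * w') := by
        have := len_le_mul hS hgen (sb_mem P hs) w'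
        rw [hq] at hle
        rw [hlen]
        omega
      have := ih w'' _ hlen hle2 hCeq
      rw [hw, this, sb_mul_cancel]
    · have hCeq := C_eq_of_common P h3 h2
      have hle2 : ℓ w'' ≤ ℓ w' := by
        rw [hq] at hle; rw [hlen]; omega
      have := ih w'' _ hlen hle2 hCeq
      rw [← this, hlen, hq] at hle
      omega

/-- Bruhat decomposition: uniqueness -/
theorem C_inj {w w' : W P} (h : C P w = C P w') : w = w' := by
  rcases le_total (ℓ w) (ℓ w') with hle | hle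
  · exact C_inj_aux P _ w w' rfl hle h
  · exact (C_inj_aux P _ w' w rfl hle h.symm).symm

theorem eq_of_common {w w' : W P} {g : G} (h : g ∈ C P w) (h' : g ∈ C P w') : w = w' :=
  C_inj P (C_eq_of_common P h h')

/-- `B n B = B n' B ↔ n⁻¹ n' ∈ B` -/
theorem dc_eq_iff {n n' : G} (hn : n ∈ P.N) (hn' : n' ∈ P.N) :
    dc P n = dc P n' ↔ n⁻¹ * n' ∈ P.B := by
  rw [← C_mk P hn, ← C_mk P hn', ← mkW_eq_iff P hn hn']
  constructor
  · exact C_inj P
  · intro h; rw [h]

theorem exists_conj_not_mem {s : G} (hs : s ∈ P.S) : ∃ b ∈ P.B, s * b * s ∉ P.B := by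
  by_contra hcon
  push Not at hcon
  apply P.conj_ne s hs
  ext g
  constructor
  · rintro ⟨b, hb, rfl⟩
    exact hcon b hb
  · intro hg
    refine ⟨s⁻¹ * g * s⁻¹, ?_, by group⟩
    have e : s⁻¹ * g * s⁻¹ = (s * s)⁻¹ * (s * g * s) * (s * s)⁻¹ := by group
    rw [e]
    exact P.B.mul_mem (P.B.mul_mem (sq_inv_mem_B P hs) (hcon g hg)) (sq_inv_mem_B P hs)

theorem A_aux : ∀ q, ∀ w : W P, ℓ w = q → ∀ s, ∀ hs : s ∈ P.S, ℓ w ≤ ℓ (sb P s hs * w) →
    ∀ g ∈ C P w, s * g ∈ C P (sb P s hs * w) := by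
  have hS := Sbar_sq P
  have hgen := Sbar_closure P
  intro q
  induction q with
  | zero =>
    intro w hq s hs _ g hg
    rw [len_eq_zero_iff hS hgen] at hq
    subst hq
    rw [C_one] at hg
    rw [mul_one]
    have := C_mul_right P (self_mem_C P (P.subset hs)) hg
    exact this
  | succ q ih =>
    intro w hq s hs hle g hg
    rcases W_axiom_left P hs hg with h | h
    · exact h
    exfalso
    obtain ⟨t, ht, hlen⟩ := exists_snoc hS hgen hq
    obtain ⟨s', hs', rfl⟩ := exists_sb_of_mem P ht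
    set w' := w * sb P s' hs' with hw'
    have hw : w = w' * sb P s' hs' := by rw [hw', mul_sb_cancel]
    obtain ⟨n', hn', hn'w⟩ := mkW_surj P w'
    have hCw : C P w = dc P (n' * s') := by
      rw [hw, ← hn'w, sb, ← mkW_mul, C_mk]
    rw [hCw, mem_dc] at hg
    obtain ⟨b, hb, b', hb', rfl⟩ := hg
    -- x = b * n' ∈ C w'
    have hx : b * n' ∈ C P w' := by
      rw [← hn'w]; exact C_mul_left P (self_mem_C P hn') hb
    have h1 : s * (b * n') * s' ∈ C P w := by
      have := C_mul_right P h (P.B.inv_mem hb')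
      have e : s * (b * (n' * s') * b') * b'⁻¹ = s * (b * n') * s' := by group
      rwa [e] at this
    have h2 := W_axiom_right_inv P hs' h1
    rw [mul_inv_cancel_right, ← hw'] at h2
    have hle' : ℓ w' ≤ ℓ (sb P s hs * w') := by
      have e : sb P s hs * w' = (sb P s hs * w) * sb P s' hs' := by rw [hw', mul_assoc]
      have := len_le_mul' hS hgen (sb_mem P hs') (sb P s hs * w)
      rw [← e] at this
      rw [hq] at hle
      rw [hlen]
      omega
    have h3 := ih w' hlen s hs hle' _ hx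
    rcases h2 with h2 | h2
    · have := eq_of_common P h3 h2
      -- sb * w' = w'
      exact sb_ne_one P hs (mul_eq_right.mp this)
    · have := eq_of_common P h3 h2
      -- sb * w' = w, so sb * w = w'
      have h5 : sb P s hs * w = w' := by rw [← this, sb_mul_cancel]
      rw [h5, hlen, hq] at hle
      omega

/-- if `ℓ(sw) ≥ ℓ(w)` then `s C(w) ⊆ C(sw)` -/
theorem A_lemma {w : W P} {s : G} (hs : s ∈ P.S) (hle : ℓ w ≤ ℓ (sb P s hs * w)) {g : G}
    (hg : g ∈ C P w) : s * g ∈ C P (sb P s hs * w) :=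
  A_aux P _ w rfl s hs hle g hg

/-- if `ℓ(sw) ≤ ℓ(w)` then `s C(w)` meets `C(w)` -/
theorem B_lemma {w : W P} {s : G} (hs : s ∈ P.S) (hle : ℓ (sb P s hs * w) ≤ ℓ w) :
    ∃ g ∈ C P w, s * g ∈ C P w := by
  set w₁ := sb P s hs * w with hw₁
  have hw : sb P s hs * w₁ = w := by rw [hw₁, sb_mul_cancel]
  have hle' : ℓ w₁ ≤ ℓ (sb P s hs * w₁) := by rw [hw]; exact hle
  have hA : ∀ g₁ ∈ C P w₁, s * g₁ ∈ C P w := by
    intro g₁ hg₁
    have := A_lemma P hs hle' hg₁
    rwa [hw] at this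
  obtain ⟨b, hb, hbs⟩ := exists_conj_not_mem P hs
  -- s b s ∈ C(sb)
  have h1 : b * s ∈ C P (sb P s hs) := C_mul_left P (self_mem_C P (P.subset hs)) hb
  have h2 := W_axiom_left P hs h1
  rw [sb_sq, C_one, ← mul_assoc] at h2
  have h3 : s * b * s ∈ C P (sb P s hs) := by
    rcases h2 with h2 | h2
    · exact absurd h2 hbs
    · exact h2
  rw [sb, C_mk, mem_dc] at h3
  obtain ⟨b₁, hb₁, b₂, hb₂, he⟩ := h3
  obtain ⟨n₁, hn₁, hn₁w⟩ := mkW_surj P w₁
  have hn₁C : n₁ ∈ C P w₁ := by rw [← hn₁w]; exact self_mem_C P hn₁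
  refine ⟨b * (s * n₁), C_mul_left P (hA _ hn₁C) hb, ?_⟩
  have e : s * (b * (s * n₁)) = b₁ * (s * (b₂ * n₁)) := by
    have : s * (b * (s * n₁)) = (s * b * s) * n₁ := by group
    rw [this, he]; group
  rw [e]
  exact C_mul_left P (hA _ (C_mul_left P hn₁C hb₂)) hb₁

theorem len_ne {w : W P} {s : G} (hs : s ∈ P.S) : ℓ (sb P s hs * w) ≠ ℓ w := by
  intro h
  obtain ⟨g, hg, hsg⟩ := B_lemma P hs (le_of_eq h)
  have := A_lemma P hs (le_of_eq h.symm) hg
  have := eq_of_common P this hsg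
  exact sb_ne_one P hs (mul_eq_right.mp this)

/-- condition (C) of Bourbaki -/
theorem cond_C {w : W P} {s s' : G} (hs : s ∈ P.S) (hs' : s' ∈ P.S)
    (h1 : ℓ w ≤ ℓ (sb P s hs * w))
    (h2 : ℓ (sb P s hs * (w * sb P s' hs')) ≤ ℓ (w * sb P s' hs')) :
    sb P s hs * w = w * sb P s' hs' := by
  obtain ⟨g, hg, hsg⟩ := B_lemma P hs h2
  obtain ⟨n, hn, rfl⟩ := mkW_surj P w
  rw [sb, ← mkW_mul, C_mk, mem_dc] at hg
  obtain ⟨b, hb, b', hb', rfl⟩ := hg
  have hx : b * n ∈ C P (mkW P n hn) := C_mul_left P (self_mem_C P hn) hb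
  have h3 : s * (b * n) * s' ∈ C P (mkW P n hn * sb P s' hs') := by
    have := C_mul_right P hsg (P.B.inv_mem hb')
    have e : s * (b * (n * s') * b') * b'⁻¹ = s * (b * n) * s' := by group
    rwa [e] at this
  have h4 := A_lemma P hs h1 hx
  have h5 := W_axiom_right P hs' h4
  rcases h5 with h5 | h5
  · exfalso
    have := eq_of_common P h3 h5
    rw [mul_assoc] at this
    exact sb_ne_one P hs (right_eq_mul.mp this)
  · exact (eq_of_common P h3 h5).symm

/-- the exchange condition -/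
theorem exchange (L : List (W P)) (hL : IsWord (Sbar P) L) {s : G} (hs : s ∈ P.S)
    (h : ¬ ℓ L.prod ≤ ℓ (sb P s hs * L.prod)) :
    ∃ L₁ s₀ L₂, L = L₁ ++ s₀ :: L₂ ∧ sb P s hs * L₁.prod = L₁.prod * s₀ := by
  induction L using List.reverseRecOn with
  | nil =>
    exfalso
    apply h
    rw [List.prod_nil, len_one]
    exact Nat.zero_le _
  | append_singleton L' t ih =>
    rw [isWord_append, isWord_singleton] at hL
    obtain ⟨s', hs', rfl⟩ := exists_sb_of_mem P hL.2
    by_cases h' : ℓ L'.prod ≤ ℓ (sb P s hs * L'.prod)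
    · refine ⟨L', sb P s' hs', [], rfl, ?_⟩
      apply cond_C P hs hs' h'
      rw [List.prod_append, List.prod_singleton] at h
      exact le_of_lt (not_le.mp h)
    · obtain ⟨L₁, s₀, L₂, rfl, he⟩ := ih hL.1 h'
      exact ⟨L₁, s₀, L₂ ++ [sb P s' hs'], by simp, he⟩

end Cfsg.Agent.Lib.Helper3.BN
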