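import Mathlib
import Cfsg.Agent.Lib.Helper3.WordLen

set_option autoImplicit false
set_option linter.unusedSectionVars false

/-! Consequences of the exchange condition in a group generated by involutions. -/

namespace Cfsg.Agent.Lib.Helper3.WordLen

variable {W : Type*} [Group W] {S : Set W}

/-- the exchange condition, in decomposition form -/
def Exch (S : Set W) : Prop :=
  ∀ L, IsWord S L → ∀ s ∈ S, ¬ len S L.prod ≤ len S (s * L.prod) →
    ∃ L₁ s₀ L₂, L = L₁ ++ s₀ :: L₂ ∧ s * L₁.prod = L₁.prod * s₀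

section

variable (hS : ∀ s ∈ S, s * s = 1) (hgen : Subgroup.closure S = ⊤)
  (hne : ∀ s ∈ S, ∀ w, len S (s * w) ≠ len S w) (hE : Exch S)
include hS hgen hne hE

/-- every `J`-word can be replaced by a reduced `J`-word -/
theorem exists_reduced_sub {J : Set W} (hJ : J ⊆ S) (L : List W) (hL : IsWord J L) :
    ∃ R, IsWord J R ∧ R.prod = L.prod ∧ R.length = len S R.prod := by
  induction L with
  | nil => exact ⟨[], isWord_nil, rfl, by rw [List.prod_nil, len_one]; rfl⟩
  | cons s L ih =>
    rw [isWord_cons] at hL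
    obtain ⟨R, hR, hprod, hlen⟩ := ih hL.2
    have hsS : s ∈ S := hJ hL.1
    have hRS : IsWord S R := hR.mono hJ
    by_cases h : len S R.prod ≤ len S (s * R.prod)
    · refine ⟨s :: R, isWord_cons.mpr ⟨hL.1, hR⟩, by rw [List.prod_cons, List.prod_cons, hprod], ?_⟩
      rw [List.prod_cons, List.length_cons]
      have h1 := hne s hsS R.prod
      have h2 := len_mul_le hS hgen hsS R.prod
      omega
    · obtain ⟨L₁, s₀, L₂, rfl, he⟩ := hE R hRS s hsS h
      rw [isWord_append, isWord_cons] at hR
      have hprod' : (L₁ ++ L₂).prod = s * (L₁ ++ s₀ :: L₂).prod := by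
        have hs0 : s₀ * s₀ = 1 := hS s₀ (hJ hR.2.1)
        rw [List.prod_append, List.prod_append, List.prod_cons, ← mul_assoc, ← mul_assoc, he,
          mul_assoc L₁.prod, hs0, mul_one]
      refine ⟨L₁ ++ L₂, isWord_append.mpr ⟨hR.1, hR.2.2⟩, ?_, ?_⟩
      · rw [hprod', List.prod_cons, hprod]
      · rw [hprod']
        have h1 := len_le_mul hS hgen hsS (L₁ ++ s₀ :: L₂).prod
        have h2 := len_le_of_word (S := S) (L := L₁ ++ L₂)
          (isWord_append.mpr ⟨hR.1.mono hJ, hR.2.2.mono hJ⟩)
        rw [hprod'] at h2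
        simp only [List.length_append, List.length_cons] at hlen h2 ⊢
        omega

/-- a distinguished generator lying in the subgroup generated by `J ⊆ S` lies in `J` -/
theorem mem_of_mem_closure (hne1 : ∀ s ∈ S, s ≠ 1) {J : Set W} (hJ : J ⊆ S) {s : W} (hs : s ∈ S)
    (h : s ∈ Subgroup.closure J) : s ∈ J := by
  have hSJ : ∀ s ∈ J, s * s = 1 := fun s hs => hS s (hJ hs)
  obtain ⟨L, hL, hprod⟩ := exists_word_of_mem_closure hSJ h
  obtain ⟨R, hR, hprod', hlen⟩ := exists_reduced_sub hS hgen hne hE hJ L hL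
  rw [hprod', hprod, len_gen hS hgen hs (hne1 s hs)] at hlen
  match R, hR, hprod', hlen with
  | [j], hR, hprod', _ =>
    rw [List.prod_singleton, hprod] at hprod'
    rw [← hprod']
    exact isWord_singleton.mp hR

end

end Cfsg.Agent.Lib.Helper3.WordLen
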