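import Mathlib
import Cfsg.Prelude.Def_LieExceptional
import Cfsg.Agent.Lib.Helper3.WordLen
import Cfsg.Agent.Lib.Helper3.Exchange
import Cfsg.Agent.Lib.Helper3.BNBasic
import Cfsg.Agent.Lib.Helper3.BNWeyl
import Cfsg.Agent.Lib.Helper3.BNBruhat

set_option autoImplicit false
set_option linter.unusedSectionVars false

/-! (B,N)-pairs: parabolic subgroups. -/

namespace Cfsg.Agent.Lib.Helper3.BN

open Cfsg WordLen

variable {G : Type*} [Group G] (P : Cfsg.BNPair G)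

local notation "ℓ" => len (Sbar P)

theorem sb_inv {s : G} (hs : s ∈ P.S) : (sb P s hs)⁻¹ = sb P s hs :=
  inv_eq_of_mul_eq_one_left (sb_sq P hs)

/-- if `n ∈ N` has positive length there is `s ∈ S` shortening it with `s ∈ B (n B n⁻¹) B` -/
theorem exists_shorten {n : G} (hn : n ∈ P.N) {q : ℕ} (hq : ℓ (mkW P n hn) = q + 1) :
    ∃ s, ∃ hs : s ∈ P.S, ℓ (mkW P (s⁻¹ * n) (P.N.mul_mem (P.N.inv_mem (P.subset hs)) hn)) = q ∧
      ∃ b₁ ∈ P.B, ∃ b₂ ∈ P.B, ∃ b₃ ∈ P.B, s = b₁ * (n * b₂ * n⁻¹) * b₃ := by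
  have hS := Sbar_sq P
  have hgen := Sbar_closure P
  obtain ⟨t, ht, hlen⟩ := exists_cons hS hgen hq
  obtain ⟨s, hs, rfl⟩ := exists_sb_of_mem P ht
  refine ⟨s, hs, ?_, ?_⟩
  · rw [mkW_mul P (P.N.inv_mem (P.subset hs)) hn, mkW_inv P (P.subset hs)]
    show ℓ ((sb P s hs)⁻¹ * _) = q
    rw [sb_inv]; exact hlen
  · have hle : ℓ (sb P s hs * mkW P n hn) ≤ ℓ (mkW P n hn) := by rw [hlen, hq]; omega
    obtain ⟨g, hg, hsg⟩ := B_lemma P hs hle
    rw [C_mk, mem_dc] at hg hsg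
    obtain ⟨b, hb, b', hb', rfl⟩ := hg
    obtain ⟨b₁, hb₁, b₁', hb₁', he⟩ := hsg
    refine ⟨b₁, hb₁, b₁' * b'⁻¹, P.B.mul_mem hb₁' (P.B.inv_mem hb'), b⁻¹, P.B.inv_mem hb, ?_⟩
    have : s = (s * (b * n * b')) * (b * n * b')⁻¹ := by group
    rw [this, he]; group

theorem mem_of_N_aux (M : Subgroup G) (hM : P.B ≤ M) :
    ∀ q, ∀ n, ∀ hn : n ∈ P.N, ℓ (mkW P n hn) = q → (∀ b ∈ P.B, n * b * n⁻¹ ∈ M) → n ∈ M := by
  have hS := Sbar_sq P
  have hgen := Sbar_closure P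
  intro q
  induction q with
  | zero =>
    intro n hn hq _
    rw [len_eq_zero_iff hS hgen, mkW_eq_one_iff] at hq
    exact hM hq
  | succ q ih =>
    intro n hn hq hconj
    obtain ⟨s, hs, hlen, b₁, hb₁, b₂, hb₂, b₃, hb₃, he⟩ := exists_shorten P hn hq
    have hsM : s ∈ M := by
      rw [he]
      exact M.mul_mem (M.mul_mem (hM hb₁) (hconj b₂ hb₂)) (hM hb₃)
    have h2 : s⁻¹ * n ∈ M := by
      apply ih _ _ hlen
      intro b hb
      have : s⁻¹ * n * b * (s⁻¹ * n)⁻¹ = s⁻¹ * (n * b * n⁻¹) * s := by group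
      rw [this]
      exact M.mul_mem (M.mul_mem (M.inv_mem hsM) (hconj b hb)) hsM
    have : n = s * (s⁻¹ * n) := by group
    rw [this]
    exact M.mul_mem hsM h2

/-- if `n ∈ N` and `M ≥ B` contains `n B n⁻¹` then `n ∈ M` -/
theorem mem_of_N (M : Subgroup G) (hM : P.B ≤ M) {n : G} (hn : n ∈ P.N)
    (h : ∀ b ∈ P.B, n * b * n⁻¹ ∈ M) : n ∈ M :=
  mem_of_N_aux P M hM _ n hn rfl h

/-- if `M ≥ B` contains `g B g⁻¹` then `g ∈ M` -/
theorem mem_of_conj_B_le (M : Subgroup G) (hM : P.B ≤ M) {g : G}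
    (h : ∀ b ∈ P.B, g * b * g⁻¹ ∈ M) : g ∈ M := by
  obtain ⟨n, hn, hg⟩ := exists_dc P g
  rw [mem_dc] at hg
  obtain ⟨b₁, hb₁, b₂, hb₂, rfl⟩ := hg
  have hnM : n ∈ M := by
    apply mem_of_N P M hM hn
    intro b hb
    have : n * b * n⁻¹ = b₁⁻¹ * ((b₁ * n * b₂) * (b₂⁻¹ * b * b₂) * (b₁ * n * b₂)⁻¹) * b₁ := by group
    rw [this]
    exact M.mul_mem (M.mul_mem (M.inv_mem (hM hb₁))
      (h _ (P.B.mul_mem (P.B.mul_mem (P.B.inv_mem hb₂) hb) hb₂))) (hM hb₁)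
  exact M.mul_mem (M.mul_mem (hM hb₁) hnM) (hM hb₂)

/-- `⟨B, n⟩ = ⟨B, n B n⁻¹⟩` -/
theorem sup_closure_eq {n : G} (hn : n ∈ P.N) :
    P.B ⊔ Subgroup.closure {n} = P.B ⊔ P.B.map (MulAut.conj n).toMonoidHom := by
  apply le_antisymm
  · apply sup_le le_sup_left
    rw [Subgroup.closure_le, Set.singleton_subset_iff]
    apply mem_of_N P _ le_sup_left hn
    intro b hb
    apply (le_sup_right : P.B.map (MulAut.conj n).toMonoidHom ≤ _)
    exact ⟨b, hb, by simp [MulAut.conj_apply]⟩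
  · apply sup_le le_sup_left
    rintro _ ⟨b, hb, rfl⟩
    have hnm : n ∈ P.B ⊔ Subgroup.closure {n} :=
      (le_sup_right : Subgroup.closure {n} ≤ _) (Subgroup.subset_closure rfl)
    have hbm : b ∈ P.B ⊔ Subgroup.closure {n} := (le_sup_left : P.B ≤ _) hb
    simp only [MulEquiv.coe_toMonoidHom, MulAut.conj_apply]
    exact Subgroup.mul_mem _ (Subgroup.mul_mem _ hnm hbm) (Subgroup.inv_mem _ hnm)

theorem subgroup_le_parabolic_aux (M : Subgroup G) (hM : P.B ≤ M) :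
    ∀ q, ∀ n, ∀ hn : n ∈ P.N, ℓ (mkW P n hn) = q → n ∈ M →
      n ∈ P.parabolic {s | s ∈ P.S ∧ s ∈ M} := by
  have hS := Sbar_sq P
  have hgen := Sbar_closure P
  intro q
  induction q with
  | zero =>
    intro n hn hq _
    rw [len_eq_zero_iff hS hgen, mkW_eq_one_iff] at hq
    exact (le_sup_left : P.B ≤ P.parabolic _) hq
  | succ q ih =>
    intro n hn hq hnM
    obtain ⟨s, hs, hlen, b₁, hb₁, b₂, hb₂, b₃, hb₃, he⟩ := exists_shorten P hn hq
    have hsM : s ∈ M := by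
      rw [he]
      exact M.mul_mem (M.mul_mem (hM hb₁)
        (M.mul_mem (M.mul_mem hnM (hM hb₂)) (M.inv_mem hnM))) (hM hb₃)
    have h2 := ih _ _ hlen (M.mul_mem (M.inv_mem hsM) hnM)
    have hsP : s ∈ P.parabolic {s | s ∈ P.S ∧ s ∈ M} :=
      (le_sup_right : Subgroup.closure _ ≤ P.parabolic _) (Subgroup.subset_closure ⟨hs, hsM⟩)
    have : n = s * (s⁻¹ * n) := by group
    rw [this]
    exact Subgroup.mul_mem _ hsP h2

/-- every subgroup containing `B` is a standard parabolic subgroup -/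
theorem subgroup_eq_parabolic (M : Subgroup G) (hM : P.B ≤ M) :
    M = P.parabolic {s | s ∈ P.S ∧ s ∈ M} := by
  apply le_antisymm
  · intro g hg
    obtain ⟨n, hn, hgn⟩ := exists_dc P g
    rw [mem_dc] at hgn
    obtain ⟨b₁, hb₁, b₂, hb₂, rfl⟩ := hgn
    have hnM : n ∈ M := by
      have : n = b₁⁻¹ * (b₁ * n * b₂) * b₂⁻¹ := by group
      rw [this]
      exact M.mul_mem (M.mul_mem (M.inv_mem (hM hb₁)) hg) (M.inv_mem (hM hb₂))
    have hnP := subgroup_le_parabolic_aux P M hM _ n hn rfl hnM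
    have hB : P.B ≤ P.parabolic {s | s ∈ P.S ∧ s ∈ M} := le_sup_left
    exact Subgroup.mul_mem _ (Subgroup.mul_mem _ (hB hb₁) hnP) (hB hb₂)
  · unfold BNPair.parabolic
    apply sup_le hM
    rw [Subgroup.closure_le]
    exact fun s hs => hs.2

theorem Sbar_exch : Exch (Sbar P) := by
  intro L hL t ht h
  obtain ⟨s, hs, rfl⟩ := exists_sb_of_mem P ht
  exact exchange P L hL hs h

theorem Sbar_len_ne : ∀ s ∈ Sbar P, ∀ w, ℓ (s * w) ≠ ℓ w := by
  intro t ht w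
  obtain ⟨s, hs, rfl⟩ := exists_sb_of_mem P ht
  exact len_ne P hs

/-- the images in `W` of a subset `J` of `S` -/
def Jbar (J : Set G) : Set (W P) := {w | ∃ s, ∃ hs : s ∈ J ∩ P.S, mkW P s (P.subset hs.2) = w}

theorem Jbar_sub (J : Set G) : Jbar P J ⊆ Sbar P := by
  rintro _ ⟨s, hs, rfl⟩
  exact ⟨s, hs.2, rfl⟩

theorem mkW_mem_closure_Jbar {J : Set G} (hJ : J ⊆ P.S) {n : G} (hn : n ∈ Subgroup.closure J) :
    mkW P n (closure_le_N P hJ hn) ∈ Subgroup.closure (Jbar P J) := by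
  have := mkW_mem_closure P hJ hn
  refine Subgroup.closure_mono ?_ this
  rintro _ ⟨s, hs, rfl⟩
  exact ⟨s, ⟨hs, hJ hs⟩, rfl⟩

/-- `S ∩ W_J = J` at the level of `W` -/
theorem mem_of_sb_mem_closure {J : Set G} {s : G} (hs : s ∈ P.S)
    (h : sb P s hs ∈ Subgroup.closure (Jbar P J)) : s ∈ J := by
  have := mem_of_mem_closure (Sbar_sq P) (Sbar_closure P) (Sbar_len_ne P) (Sbar_exch P)
    (Sbar_ne_one P) (Jbar_sub P J) (sb_mem P hs) h
  obtain ⟨j, hj, hje⟩ := this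
  have := Sbar_inj P hj.2 hs hje
  rw [← this]; exact hj.1

/-- if `g ∈ P_J` lies in the cell `C(w)` then `w ∈ W_J` -/
theorem mem_closure_Jbar_of_mem {J : Set G} (hJ : J ⊆ P.S) {g : G} (hg : g ∈ P.parabolic J)
    {w : W P} (hw : g ∈ C P w) : w ∈ Subgroup.closure (Jbar P J) := by
  obtain ⟨n, hn, hgn⟩ := (mem_parabolic_iff P hJ g).mp hg
  have hnN := closure_le_N P hJ hn
  rw [← C_mk P hnN] at hgn
  rw [eq_of_common P hw hgn]
  exact mkW_mem_closure_Jbar P hJ hn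

/-- `S ∩ P_J = J` -/
theorem mem_of_mem_parabolic {J : Set G} (hJ : J ⊆ P.S) {s : G} (hs : s ∈ P.S)
    (h : s ∈ P.parabolic J) : s ∈ J :=
  mem_of_sb_mem_closure P hs (mem_closure_Jbar_of_mem P hJ h (self_mem_C P (P.subset hs)))

theorem parabolic_mono {J K : Set G} (h : J ⊆ K) : P.parabolic J ≤ P.parabolic K :=
  sup_le_sup_left (Subgroup.closure_mono h) _

theorem parabolic_le_iff {J K : Set G} (hJ : J ⊆ P.S) (hK : K ⊆ P.S) :
    P.parabolic J ≤ P.parabolic K ↔ J ⊆ K := by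
  constructor
  · intro h s hs
    apply mem_of_mem_parabolic P hK (hJ hs)
    apply h
    exact (le_sup_right : Subgroup.closure J ≤ P.parabolic J) (Subgroup.subset_closure hs)
  · exact parabolic_mono P

theorem parabolic_inj {J K : Set G} (hJ : J ⊆ P.S) (hK : K ⊆ P.S)
    (h : P.parabolic J = P.parabolic K) : J = K :=
  Set.Subset.antisymm ((parabolic_le_iff P hJ hK).mp (le_of_eq h))
    ((parabolic_le_iff P hK hJ).mp (le_of_eq h.symm))

theorem S_inter_parabolic {J : Set G} (hJ : J ⊆ P.S) :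
    {s | s ∈ P.S ∧ s ∈ P.parabolic J} = J := by
  ext s
  constructor
  · rintro ⟨hs, h⟩
    exact mem_of_mem_parabolic P hJ hs h
  · intro hs
    exact ⟨hJ hs, (le_sup_right : Subgroup.closure J ≤ P.parabolic J) (Subgroup.subset_closure hs)⟩

theorem parabolic_inf {J K : Set G} (hJ : J ⊆ P.S) (hK : K ⊆ P.S) :
    P.parabolic J ⊓ P.parabolic K = P.parabolic (J ∩ K) := by
  have hB : P.B ≤ P.parabolic J ⊓ P.parabolic K := le_inf le_sup_left le_sup_left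
  rw [subgroup_eq_parabolic P _ hB]
  congr 1
  ext s
  constructor
  · rintro ⟨hs, h1, h2⟩
    exact ⟨mem_of_mem_parabolic P hJ hs h1, mem_of_mem_parabolic P hK hs h2⟩
  · rintro ⟨h1, h2⟩
    refine ⟨hJ h1, ?_, ?_⟩
    · exact (le_sup_right : Subgroup.closure J ≤ P.parabolic J) (Subgroup.subset_closure h1)
    · exact (le_sup_right : Subgroup.closure K ≤ P.parabolic K) (Subgroup.subset_closure h2)

end Cfsg.Agent.Lib.Helper3.BN
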