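import Mathlib
import Cfsg.Prelude.Def_LieExceptional
import Cfsg.Agent.Lib.Helper3.WordLen
import Cfsg.Agent.Lib.Helper3.Exchange
import Cfsg.Agent.Lib.Helper3.BNBasic
import Cfsg.Agent.Lib.Helper3.BNWeyl
import Cfsg.Agent.Lib.Helper3.BNBruhat
import Cfsg.Agent.Lib.Helper3.BNParabolic

set_option autoImplicit false
set_option linter.unusedSectionVars false

/-! (B,N)-pairs: Tits' simplicity criterion. -/

namespace Cfsg.Agent.Lib.Helper3.BN

open Cfsg WordLen

variable {G : Type*} [Group G] (P : Cfsg.BNPair G)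

local notation "ℓ" => len (Sbar P)

theorem len_sb {s : G} (hs : s ∈ P.S) : ℓ (sb P s hs) = 1 :=
  len_gen (Sbar_sq P) (Sbar_closure P) (sb_mem P hs) (sb_ne_one P hs)

theorem len_sb_mul_sb {s s' : G} (hs : s ∈ P.S) (hs' : s' ∈ P.S) (hne : s' ≠ s) :
    ℓ (sb P s' hs' * sb P s hs) = 2 := by
  have h1 := len_mul_le (Sbar_sq P) (Sbar_closure P) (sb_mem P hs') (sb P s hs)
  have h2 := len_ne P hs' (w := sb P s hs)
  rw [len_sb] at h1 h2
  have h3 : ℓ (sb P s' hs' * sb P s hs) ≠ 0 := by
    intro h0
    rw [len_eq_zero_iff (Sbar_sq P) (Sbar_closure P)] at h0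
    have : sb P s' hs' = (sb P s hs)⁻¹ := eq_inv_of_mul_eq_one_left h0
    rw [sb_inv] at this
    exact hne (Sbar_inj P hs' hs this)
  omega

theorem prod_mem_closure_Jbar {J : Set G} {L : List (W P)} (hL : IsWord (Jbar P J) L) :
    L.prod ∈ Subgroup.closure (Jbar P J) := prod_mem_closure hL

/-- Lemma: for `H` normal, the generators in `HB` commute (in `W`) with those outside -/
theorem commute_of_normal (H : Subgroup G) [H.Normal] {s s' : G} (hs : s ∈ P.S) (hs' : s' ∈ P.S)
    (hsM : s ∈ H ⊔ P.B) (hs'M : s' ∉ H ⊔ P.B) :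
    sb P s hs * sb P s' hs' = sb P s' hs' * sb P s hs := by
  have hS := Sbar_sq P
  have hgen := Sbar_closure P
  set X : Set G := {s | s ∈ P.S ∧ s ∈ H ⊔ P.B} with hXdef
  have hX : X ⊆ P.S := fun s hs => hs.1
  have hMP : H ⊔ P.B = P.parabolic X := subgroup_eq_parabolic P _ le_sup_right
  have hsX : s ∈ X := ⟨hs, hsM⟩
  have hs'X : s' ∉ X := fun h => hs'M h.2
  have hne : s' ≠ s := fun h => hs'X (h ▸ hsX)
  have hsbX : sb P s hs ∈ Jbar P X := ⟨s, ⟨hsX, hs⟩, rfl⟩
  have hJS : ∀ t ∈ Jbar P X, t * t = 1 := fun t ht => hS t (Jbar_sub P X ht)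
  -- an element of H in C(s)
  have hmem : s ∈ ((H ⊔ P.B : Subgroup G) : Set G) := hsM
  rw [Subgroup.normal_mul] at hmem
  obtain ⟨h, hh, b, hb, hhb⟩ := Set.mem_mul.mp hmem
  have hhC : h ∈ C P (sb P s hs) := by
    have : h = s * b⁻¹ := by rw [← hhb]; group
    rw [this]
    exact C_mul_right P (self_mem_C P (P.subset hs)) (P.B.inv_mem hb)
  have hlen2 := len_sb_mul_sb P hs hs' hne
  have hle : ℓ (sb P s hs) ≤ ℓ (sb P s' hs' * sb P s hs) := by rw [hlen2, len_sb]; omega
  have h1 := A_lemma P hs' hle hhC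
  have h2 := W_axiom_right_inv P hs' h1
  have hgH : s' * h * s'⁻¹ ∈ H := Subgroup.Normal.conj_mem inferInstance h hh s'
  have hgP : s' * h * s'⁻¹ ∈ P.parabolic X := by
    rw [← hMP]; exact (le_sup_left : H ≤ H ⊔ P.B) hgH
  rcases h2 with h2 | h2
  swap
  · -- sb s' * sb s ∈ W_X, impossible
    exfalso
    have h3 := mem_closure_Jbar_of_mem P hX hgP h2
    have h4 : sb P s' hs' ∈ Subgroup.closure (Jbar P X) := by
      have := Subgroup.mul_mem _ h3 (Subgroup.subset_closure hsbX)
      rwa [mul_assoc, sb_sq, mul_one] at this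
    exact hs'X (mem_of_sb_mem_closure P hs' h4)
  · have h3 := mem_closure_Jbar_of_mem P hX hgP h2
    set w := sb P s' hs' * sb P s hs * sb P s' hs' with hw
    set u := sb P s hs * sb P s' hs' with hu
    have hwu : w = sb P s' hs' * u := by rw [hw, hu, mul_assoc]
    have huw : sb P s' hs' * w = u := by rw [hwu, sb_mul_cancel]
    have hlenu : ℓ u = 2 := len_sb_mul_sb P hs' hs (Ne.symm hne)
    have hlenw : ℓ w ≠ 2 := by
      have := len_ne P hs' (w := u)
      rw [← hwu, hlenu] at this
      exact this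
    by_cases h3' : ℓ w ≤ 2
    · -- exchange on the word [sb s, sb s'] with s'
      have hword : IsWord (Sbar P) [sb P s hs, sb P s' hs'] := by
        rw [isWord_cons, isWord_singleton]
        exact ⟨sb_mem P hs, sb_mem P hs'⟩
      have hprod : [sb P s hs, sb P s' hs'].prod = u := by simp [hu]
      have hnot : ¬ ℓ [sb P s hs, sb P s' hs'].prod ≤ ℓ (sb P s' hs' * [sb P s hs, sb P s' hs'].prod) := by
        rw [hprod, ← hwu, hlenu]
        omega
      obtain ⟨L₁, s₀, L₂, hdec, he⟩ := exchange P _ hword hs' hnot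
      match L₁, hdec, he with
      | [], hdec, he =>
        exfalso
        simp only [List.nil_append, List.cons.injEq] at hdec
        rw [← hdec.1] at he
        simp only [List.prod_nil, mul_one, one_mul] at he
        exact hne (Sbar_inj P hs' hs he)
      | [x], hdec, he =>
        simp only [List.cons_append, List.nil_append, List.cons.injEq] at hdec
        rw [← hdec.1, ← hdec.2.1] at he
        simp only [List.prod_cons, List.prod_nil, mul_one] at he
        exact he.symm
      | x :: y :: L', hdec, he =>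
        exfalso
        simp only [List.cons_append, List.cons.injEq] at hdec
        have := hdec.2.2
        simp at this
    · -- ℓ w = 3 : exchange on a reduced X-word
      exfalso
      obtain ⟨L, hL, hprod⟩ := exists_word_of_mem_closure hJS h3
      obtain ⟨R, hR, hprod', hlen⟩ := exists_reduced_sub hS hgen (Sbar_len_ne P) (Sbar_exch P)
        (Jbar_sub P X) L hL
      rw [hprod] at hprod'
      have hnot : ¬ ℓ R.prod ≤ ℓ (sb P s' hs' * R.prod) := by
        rw [hprod', huw, hlenu]; omega
      obtain ⟨L₁, s₀, L₂, rfl, he⟩ := exchange P R (hR.mono (Jbar_sub P X)) hs' hnot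
      rw [isWord_append, isWord_cons] at hR
      have h4 : sb P s' hs' ∈ Subgroup.closure (Jbar P X) := by
        have : sb P s' hs' = L₁.prod * s₀ * (L₁.prod)⁻¹ := by
          rw [← he]; group
        rw [this]
        exact Subgroup.mul_mem _ (Subgroup.mul_mem _ (prod_mem_closure hR.1)
          (Subgroup.subset_closure hR.2.1)) (Subgroup.inv_mem _ (prod_mem_closure hR.1))
      exact hs'X (mem_of_sb_mem_closure P hs' h4)

theorem parabolic_empty : P.parabolic ∅ = P.B := by
  unfold BNPair.parabolic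
  rw [Subgroup.closure_empty, sup_bot_eq]

/-- Tits' simplicity criterion -/
theorem simple_of_irreducible [Nontrivial G] (hirr : P.Irreducible) (hsolv : Group.IsSolvable P.B)
    (hperf : commutator G = ⊤) (hcore : P.B.normalCore = ⊥) : IsSimpleGroup G := by
  refine ⟨fun H hH => ?_⟩
  set X : Set G := {s | s ∈ P.S ∧ s ∈ H ⊔ P.B} with hXdef
  have hX : X ⊆ P.S := fun s hs => hs.1
  have hMP : H ⊔ P.B = P.parabolic X := subgroup_eq_parabolic P _ le_sup_right
  have hcases : X = ∅ ∨ X = P.S := by
    by_contra hcon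
    push Not at hcon
    have hne1 : X.Nonempty := hcon.1
    have hne2 : (P.S \ X).Nonempty := by
      by_contra h
      rw [Set.not_nonempty_iff_eq_empty, Set.sdiff_eq_empty] at h
      exact hcon.2 (Set.Subset.antisymm hX h)
    obtain ⟨s, hsX, s', hs'X, hcomm⟩ := hirr X hX hne1 hne2
    apply hcomm
    have hs : s ∈ P.S := hsX.1
    have hs' : s' ∈ P.S := hs'X.1
    have hs'M : s' ∉ H ⊔ P.B := fun h => hs'X.2 ⟨hs', h⟩
    have hc := commute_of_normal P H hs hs' hsX.2 hs'M
    have hN : s * s' * s⁻¹ * s'⁻¹ ∈ P.N :=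
      P.N.mul_mem (P.N.mul_mem (P.N.mul_mem (P.subset hs) (P.subset hs')) (P.N.inv_mem (P.subset hs)))
        (P.N.inv_mem (P.subset hs'))
    rw [← mkW_eq_one_iff P hN]
    have : mkW P (s * s' * s⁻¹ * s'⁻¹) hN =
        sb P s hs * sb P s' hs' * (sb P s hs)⁻¹ * (sb P s' hs')⁻¹ := rfl
    rw [this, hc]
    group
  rcases hcases with h0 | h1
  · left
    rw [h0, parabolic_empty] at hMP
    have hle : H ≤ P.B := by rw [← hMP]; exact le_sup_left
    have := (Subgroup.normal_le_normalCore (H := P.B) (N := H)).mpr hle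
    rw [hcore] at this
    exact le_bot_iff.mp this
  · right
    rw [h1, parabolic_S] at hMP
    -- G ⧸ H is solvable and perfect
    have hsurj : Function.Surjective ((QuotientGroup.mk' H).comp P.B.subtype) := by
      intro x
      obtain ⟨g, rfl⟩ := QuotientGroup.mk'_surjective H x
      have hg : g ∈ ((H ⊔ P.B : Subgroup G) : Set G) := by rw [hMP]; trivial
      rw [Subgroup.normal_mul] at hg
      obtain ⟨h, hh, b, hb, rfl⟩ := Set.mem_mul.mp hg
      refine ⟨⟨b, hb⟩, ?_⟩
      simp only [MonoidHom.coe_comp, Subgroup.coe_subtype, Function.comp_apply,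
        QuotientGroup.mk'_apply]
      rw [QuotientGroup.eq]
      have : b⁻¹ * (h * b) = b⁻¹ * h * b⁻¹⁻¹ := by group
      rw [this]
      exact Subgroup.Normal.conj_mem hH h hh b⁻¹
    have hsolvQ : Group.IsSolvable (G ⧸ H) := Group.isSolvable_of_surjective hsurj
    have hperfQ : commutator (G ⧸ H) = ⊤ := by
      have h1 := Subgroup.map_commutator (⊤ : Subgroup G) ⊤ (QuotientGroup.mk' H)
      rw [← commutator_def, hperf, Subgroup.map_top_of_surjective _ (QuotientGroup.mk'_surjective H),
        ← commutator_def] at h1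
      exact h1.symm
    by_contra hHtop
    have : Nontrivial (G ⧸ H) := by
      rw [← not_subsingleton_iff_nontrivial]
      intro hsub
      apply hHtop
      rw [eq_top_iff]
      intro g _
      have : (QuotientGroup.mk g : G ⧸ H) = QuotientGroup.mk 1 := Subsingleton.elim _ _
      rw [QuotientGroup.eq] at this
      have := H.inv_mem this
      simpa using this
    have := Group.IsSolvable.commutator_lt_top_of_nontrivial (G ⧸ H)
    rw [hperfQ] at this
    exact lt_irrefl _ this

end Cfsg.Agent.Lib.Helper3.BN
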