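import Mathlib
import Cfsg.Agent.Lib.Helper3.Exchange

set_option autoImplicit false
set_option linter.unusedSectionVars false

/-! A group generated by involutions satisfying the exchange condition is a Coxeter group
(Matsumoto / Tits: the word property). -/

namespace Cfsg.Agent.Lib.Helper3.Cox

open Cfsg.Agent.Lib.Helper3.WordLen

variable {W : Type*} [Group W]

/-- alternating products: `altP x y m` has `m` factors and ends with `y` -/
def altP (x y : W) : ℕ → W
  | 0 => 1
  | m + 1 => altP y x m * y

theorem altP_even_odd (x y : W) (k : ℕ) :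
    altP x y (2 * k) = (x * y) ^ k ∧ altP x y (2 * k + 1) = y * (x * y) ^ k := by
  induction k generalizing x y with
  | zero => simp [altP]
  | succ k ih =>
    have h1 : altP x y (2 * (k + 1)) = (x * y) ^ (k + 1) := by
      have : 2 * (k + 1) = (2 * k + 1) + 1 := by ring
      rw [this, altP, (ih y x).2, pow_succ', mul_assoc, mul_pow_mul, mul_assoc]
    refine ⟨h1, ?_⟩
    have : 2 * (k + 1) + 1 = (2 * (k + 1)) + 1 := rfl
    rw [this, altP]
    have h2 : altP y x (2 * (k + 1)) = (y * x) ^ (k + 1) := by
      have : 2 * (k + 1) = (2 * k + 1) + 1 := by ring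
      rw [this, altP, (ih x y).2, pow_succ', mul_assoc, mul_pow_mul, mul_assoc]
    rw [h2, mul_pow_mul]

/-- if the two alternating products of length `m` agree then `(x y)^m = 1` -/
theorem pow_eq_one_of_altP_eq {x y : W} (hx : x * x = 1) (hy : y * y = 1) {m : ℕ}
    (h : altP x y m = altP y x m) : (x * y) ^ m = 1 := by
  have hinv : (y * x) = (x * y)⁻¹ := by
    rw [mul_inv_rev, inv_eq_of_mul_eq_one_left hx, inv_eq_of_mul_eq_one_left hy]
  rcases Nat.even_or_odd' m with ⟨k, rfl | rfl⟩
  · rw [(altP_even_odd x y k).1, (altP_even_odd y x k).1, hinv, inv_pow] at h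
    rw [pow_mul', pow_two]
    calc (x * y) ^ k * (x * y) ^ k = (x * y) ^ k * ((x * y) ^ k)⁻¹ := by rw [← h]
      _ = 1 := mul_inv_cancel _
  · rw [(altP_even_odd x y k).2, (altP_even_odd y x k).2, hinv, inv_pow] at h
    -- y r^k = x r^-k
    have h2 : (x * y) ^ (k + 1) = ((x * y) ^ k)⁻¹ := by
      rw [pow_succ', mul_assoc, h, ← mul_assoc, hx, one_mul]
    rw [show 2 * k + 1 = (k + 1) + k by ring, pow_add, h2, inv_mul_cancel]

/-- removing a full period -/
theorem altP_sub {x y : W} (hx : x * x = 1) (hy : y * y = 1) {m : ℕ} (hm : (x * y) ^ m = 1)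
    {q : ℕ} (hq : 2 * m ≤ q) : altP x y q = altP x y (q - 2 * m) := by
  rcases Nat.even_or_odd' q with ⟨k, rfl | rfl⟩
  · have hk : m ≤ k := by omega
    have e : 2 * k - 2 * m = 2 * (k - m) := by omega
    rw [e, (altP_even_odd x y k).1, (altP_even_odd x y (k - m)).1]
    conv_lhs => rw [← Nat.sub_add_cancel hk, pow_add, hm, mul_one]
  · have hk : m ≤ k := by omega
    have e : 2 * k + 1 - 2 * m = 2 * (k - m) + 1 := by omega
    rw [e, (altP_even_odd x y k).2, (altP_even_odd x y (k - m)).2]
    conv_lhs => rw [← Nat.sub_add_cancel hk, pow_add, hm, mul_one]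


/-! ### words over the index type -/

variable {B : Type*} (f : B → W)

/-- the value of a word -/
def val (L : List B) : W := (L.map f).prod

theorem val_nil : val f [] = 1 := rfl
theorem val_cons (b : B) (L : List B) : val f (b :: L) = f b * val f L := by simp [val]
theorem val_append (L L' : List B) : val f (L ++ L') = val f L * val f L' := by simp [val]
theorem val_singleton (b : B) : val f [b] = f b := by simp [val]

theorem isWord_map (L : List B) : IsWord (Set.range f) (L.map f) := by
  intro x hx
  rw [List.mem_map] at hx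
  obtain ⟨b, -, rfl⟩ := hx
  exact Set.mem_range_self b

/-- reduced words -/
def Red (L : List B) : Prop := len (Set.range f) (val f L) = L.length

theorem len_val_le (L : List B) : len (Set.range f) (val f L) ≤ L.length := by
  have := len_le_of_word (S := Set.range f) (isWord_map f L)
  rwa [List.length_map] at this

theorem val_alt (a a' : B) (m : ℕ) :
    val f (CoxeterSystem.alternatingWord a a' m) = altP (f a) (f a') m := by
  induction m generalizing a a' with
  | zero => rfl
  | succ m ih =>
    rw [CoxeterSystem.alternatingWord_succ, List.concat_eq_append, val_append, val_singleton, ih,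
      altP]

section main

variable (hsq : ∀ b, f b * f b = 1) (hgen : Subgroup.closure (Set.range f) = ⊤)
  (hne : ∀ s ∈ Set.range f, ∀ w, len (Set.range f) (s * w) ≠ len (Set.range f) w)
  (hE : Exch (Set.range f))
include hsq hgen

theorem hS' : ∀ s ∈ Set.range f, s * s = 1 := by
  rintro _ ⟨b, rfl⟩
  exact hsq b

theorem len_mul_le_add (u v : W) :
    len (Set.range f) (u * v) ≤ len (Set.range f) u + len (Set.range f) v := by
  obtain ⟨L, hL, hu, hlen⟩ := exists_reduced (hS' f hsq hgen) hgen u
  obtain ⟨L', hL', hv, hlen'⟩ := exists_reduced (hS' f hsq hgen) hgen v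
  have := len_le_of_word (S := Set.range f) (isWord_append.mpr ⟨hL, hL'⟩)
  rw [List.prod_append, hu, hv, List.length_append, hlen, hlen'] at this
  exact this

theorem red_append {X Y : List B} (h : Red f (X ++ Y)) : Red f X ∧ Red f Y := by
  unfold Red at *
  rw [val_append, List.length_append] at h
  have h1 := len_mul_le_add f hsq hgen (val f X) (val f Y)
  have h2 := len_val_le f X
  have h3 := len_val_le f Y
  omega

theorem red_of_val_eq {X Y : List B} (hX : Red f X) (hv : val f Y = val f X)
    (hl : Y.length = X.length) : Red f Y := by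
  unfold Red at *
  rw [hv, hX, hl]

end main

section wp

variable (M : CoxeterMatrix B)

/-- the product of a word in the Coxeter group -/
noncomputable def pw (L : List B) : M.Group := (M.toCoxeterSystem).wordProd L

theorem pw_nil : pw M ([] : List B) = 1 := (M.toCoxeterSystem).wordProd_nil
theorem pw_cons (b : B) (L : List B) : pw M (b :: L) = M.simple b * pw M L := by
  unfold pw
  rw [CoxeterSystem.wordProd_cons, CoxeterMatrix.toCoxeterSystem_simple]
theorem pw_append (L L' : List B) : pw M (L ++ L') = pw M L * pw M L' :=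
  (M.toCoxeterSystem).wordProd_append L L'
theorem pw_singleton (b : B) : pw M [b] = M.simple b := by
  rw [pw_cons, pw_nil, mul_one]
theorem simple_sq (b : B) : M.simple b * M.simple b = 1 := by
  have := (M.toCoxeterSystem).simple_mul_simple_self b
  rwa [CoxeterMatrix.toCoxeterSystem_simple] at this

/-- the word property for words of length `n` -/
def WP (n : ℕ) : Prop :=
  ∀ R R' : List B, R.length = n → R'.length = n → Red f R → Red f R' → val f R = val f R' →
    pw M R = pw M R'

variable (hsq : ∀ b, f b * f b = 1) (hgen : Subgroup.closure (Set.range f) = ⊤)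
  (hne : ∀ s ∈ Set.range f, ∀ w, len (Set.range f) (s * w) ≠ len (Set.range f) w)
  (hE : Exch (Set.range f))
include hsq hgen hE

/-- one step of the descent -/
theorem step {q : ℕ} (hWP : WP f M q) {R R₀' : List B} {a' : B} (hR : R.length = q + 1)
    (hR' : R₀'.length = q) (rR : Red f R) (rR' : Red f (a' :: R₀')) (hv : val f R = val f (a' :: R₀')) :
    pw M R = pw M (a' :: R₀') ∨ (val f (a' :: R.dropLast) = val f R ∧ Red f (a' :: R.dropLast) ∧
      pw M (a' :: R.dropLast) = pw M (a' :: R₀')) := by
  have hlenw : len (Set.range f) (val f R) = q + 1 := by rw [rR, hR]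
  have hcan : f a' * val f R = val f R₀' := by
    rw [hv, val_cons, ← mul_assoc, hsq, one_mul]
  have hlt : ¬ len (Set.range f) ((R.map f).prod) ≤ len (Set.range f) (f a' * (R.map f).prod) := by
    show ¬ len (Set.range f) (val f R) ≤ len (Set.range f) (f a' * val f R)
    rw [hcan, hlenw]
    have := len_val_le f R₀'
    omega
  obtain ⟨L₁, s₀, L₂, hL, he⟩ := hE (R.map f) (isWord_map f R) (f a') (Set.mem_range_self a') hlt
  obtain ⟨R₁, R₂', rfl, rfl, h2⟩ := List.map_eq_append_iff.mp hL
  obtain ⟨b₀, R₂, rfl, rfl, rfl⟩ := List.map_eq_cons_iff.mp h2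
  have he' : f a' * val f R₁ = val f R₁ * f b₀ := he
  have hlen : R₁.length + R₂.length = q := by
    simp only [List.length_append, List.length_cons] at hR
    omega
  -- the word `U'`
  have hU'v : val f (a' :: (R₁ ++ R₂)) = val f (R₁ ++ b₀ :: R₂) := by
    rw [val_cons, val_append, val_append, val_cons, ← mul_assoc, he', mul_assoc]
  have hU'r : Red f (a' :: (R₁ ++ R₂)) := by
    apply red_of_val_eq f hsq hgen rR hU'v
    simp only [List.length_append, List.length_cons]
    omega
  have hU'p : pw M (a' :: (R₁ ++ R₂)) = pw M (a' :: R₀') := by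
    rw [pw_cons, pw_cons]
    congr 1
    apply hWP
    · rw [List.length_append]; exact hlen
    · exact hR'
    · exact (red_append f hsq hgen (X := [a']) hU'r).2
    · exact (red_append f hsq hgen (X := [a']) rR').2
    · have : f a' * val f (R₁ ++ R₂) = f a' * val f R₀' := by
        rw [← val_cons, hU'v, hv, val_cons]
      exact mul_left_cancel this
  rcases List.eq_nil_or_concat R₂ with rfl | ⟨R₃, c, rfl⟩
  · right
    have hd : (R₁ ++ [b₀]).dropLast = R₁ := List.dropLast_concat
    rw [hd]
    rw [List.append_nil] at hU'v hU'r hU'p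
    exact ⟨hU'v, hU'r, hU'p⟩
  · left
    rw [← hU'p]
    rw [List.concat_eq_append] at *
    have e1 : R₁ ++ b₀ :: (R₃ ++ [c]) = (R₁ ++ b₀ :: R₃) ++ [c] := by simp
    have e2 : a' :: (R₁ ++ (R₃ ++ [c])) = (a' :: (R₁ ++ R₃)) ++ [c] := by simp
    have e3 : pw M (R₁ ++ b₀ :: (R₃ ++ [c])) = pw M (R₁ ++ b₀ :: R₃) * pw M [c] := by
      rw [e1, pw_append]
    have e4 : pw M (a' :: (R₁ ++ (R₃ ++ [c]))) = pw M (a' :: (R₁ ++ R₃)) * pw M [c] := by
      rw [e2, pw_append]
    rw [e3, e4]
    congr 1
    rw [e1] at rR hU'v
    rw [e2] at hU'r hU'v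
    apply hWP
    · simp only [List.length_append, List.length_cons, List.length_nil] at hlen ⊢
      omega
    · simp only [List.length_append, List.length_cons, List.length_nil] at hlen ⊢
      omega
    · exact (red_append f hsq hgen rR).1
    · exact (red_append f hsq hgen hU'r).1
    · rw [val_append, val_append] at hU'v
      exact (mul_right_cancel hU'v).symm

/-- the next word in the descent -/
def nextW (X Y : List B) : List B :=
  match X with
  | [] => []
  | a :: _ => a :: Y.dropLast

omit hsq hgen hE in
theorem nextW_cons (a : B) (X Y : List B) : nextW (a :: X) Y = a :: Y.dropLast := rfl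

/-- the sequence of pairs of words -/
def Zseq (R' R : List B) : ℕ → List B × List B
  | 0 => (R', R)
  | k + 1 => ((Zseq R' R k).2, nextW (Zseq R' R k).1 (Zseq R' R k).2)

/-- the invariant of the descent -/
def Inv (q : ℕ) (w : W) (p : List B × List B) : Prop :=
  p.1.length = q + 1 ∧ p.2.length = q + 1 ∧ Red f p.1 ∧ Red f p.2 ∧ val f p.1 = w ∧ val f p.2 = w ∧
    pw M p.2 ≠ pw M p.1

theorem inv_step {q : ℕ} (hWP : WP f M q) {w : W} {X Y : List B} (h : Inv f M q w (X, Y)) :
    Inv f M q w (Y, nextW X Y) := by
  obtain ⟨hX, hY, rX, rY, vX, vY, hp⟩ := h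
  simp only at hX hY rX rY vX vY hp
  cases X with
  | nil => simp at hX
  | cons a' X₀ =>
    have hX₀ : X₀.length = q := by simpa using hX
    rcases step f M hsq hgen hE hWP hY hX₀ rY rX (vY.trans vX.symm) with h1 | ⟨h1, h2, h3⟩
    · exact absurd h1 hp
    · refine ⟨hY, ?_, rY, h2, vY, h1.trans vY, ?_⟩
      · rw [nextW_cons, List.length_cons, List.length_dropLast, hY]; rfl
      · show pw M (nextW (a' :: X₀) Y) ≠ pw M Y
        rw [nextW_cons, h3]
        exact fun h => hp h.symm

theorem inv_all {q : ℕ} (hWP : WP f M q) {w : W} {R' R : List B} (h : Inv f M q w (R', R)) :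
    ∀ k, Inv f M q w (Zseq R' R k)
  | 0 => h
  | k + 1 => inv_step f M hsq hgen hE hWP (inv_all hWP h k)

omit hsq hgen hE in
theorem dropLast_take' {l : List B} {i : ℕ} (h : i ≤ l.length) : (l.take i).dropLast = l.take (i - 1) := by
  rw [List.dropLast_eq_take, List.length_take, Nat.min_eq_left h, List.take_take,
    Nat.min_eq_left (Nat.sub_le _ _)]

/-- the explicit form of the words of the descent -/
def Pw (a a' : B) (R' R : List B) (n : ℕ) : ℕ → List B
  | 0 => R'
  | j + 1 => CoxeterSystem.alternatingWord a a' j ++ R.take (n - j)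

omit hsq hgen hE in
theorem Pw_head (a a' : B) (T' T : List B) (n : ℕ) (hn : (a :: T).length = n) (k : ℕ) (hk : k ≤ n) :
    ∃ tl, Pw a a' (a' :: T') (a :: T) n k = (if Even k then a' else a) :: tl := by
  rcases k with _ | j
  · exact ⟨T', by simp [Pw]⟩
  · rcases j with _ | i
    · refine ⟨T.take (n - 1), ?_⟩
      have hn1 : n = (n - 1) + 1 := by
        rw [List.length_cons] at hn; omega
      simp only [Pw, CoxeterSystem.alternatingWord, List.nil_append, Nat.sub_zero]
      rw [hn1, List.take_succ_cons]
      simp
    · refine ⟨CoxeterSystem.alternatingWord a a' i ++ (a :: T).take (n - (i + 1)), ?_⟩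
      simp only [Pw]
      rw [CoxeterSystem.alternatingWord_succ', List.cons_append]
      congr 1
      have : Even (i + 1 + 1) ↔ Even i := by
        rw [Nat.even_add_one, Nat.even_add_one, not_not]
      simp only [this]

omit hsq hgen hE in
theorem Zseq_eq (a a' : B) (T' T : List B) (n : ℕ) (hn : (a :: T).length = n) :
    ∀ k ≤ n, Zseq (a' :: T') (a :: T) k =
      (Pw a a' (a' :: T') (a :: T) n k, Pw a a' (a' :: T') (a :: T) n (k + 1))
  | 0, _ => by
    simp only [Zseq, Pw, CoxeterSystem.alternatingWord, List.nil_append, Nat.sub_zero]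
    rw [← hn, List.take_length]
  | k + 1, hk => by
    have ih := Zseq_eq a a' T' T n hn k (by omega)
    simp only [Zseq]
    rw [ih]
    simp only
    congr 1
    obtain ⟨tl, htl⟩ := Pw_head a a' T' T n hn k (by omega)
    rw [htl, nextW_cons]
    simp only [Pw]
    rw [CoxeterSystem.alternatingWord_succ', List.cons_append]
    congr 1
    have hne : (a :: T).take (n - k) ≠ [] := by
      intro h0
      have := congrArg List.length h0
      rw [List.length_take, hn] at this
      simp at this
      omega
    rw [List.dropLast_append_of_ne_nil hne, dropLast_take' (by rw [hn]; omega)]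
    congr 2

variable (hM : ∀ b b', M b b' = orderOf (f b * f b'))
include hM

omit hE in
/-- the end of the descent: two alternating words -/
theorem alt_final (a a' : B) {n : ℕ} (hn : 1 ≤ n)
    (rY : Red f (CoxeterSystem.alternatingWord a a' n))
    (hv : val f (CoxeterSystem.alternatingWord a' a n) = val f (CoxeterSystem.alternatingWord a a' n)) :
    pw M (CoxeterSystem.alternatingWord a a' n) = pw M (CoxeterSystem.alternatingWord a' a n) := by
  rw [val_alt, val_alt] at hv
  have hpow : (f a * f a') ^ n = 1 := pow_eq_one_of_altP_eq (hsq a) (hsq a') hv.symm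
  set m := orderOf (f a * f a') with hm
  have hdvd : m ∣ n := orderOf_dvd_of_pow_eq_one hpow
  have hm0 : 0 < m := by
    rcases Nat.eq_zero_or_pos m with h0 | h0
    · rw [h0, zero_dvd_iff] at hdvd; omega
    · exact h0
  have hlt : n < 2 * m := by
    by_contra hcon
    push Not at hcon
    have h1 := altP_sub (hsq a) (hsq a') (pow_orderOf_eq_one (f a * f a')) (q := n) hcon
    have h2 : val f (CoxeterSystem.alternatingWord a a' n) =
        val f (CoxeterSystem.alternatingWord a a' (n - 2 * m)) := by
      rw [val_alt, val_alt]; exact h1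
    have h3 := len_val_le f (CoxeterSystem.alternatingWord a a' (n - 2 * m))
    unfold Red at rY
    rw [← h2, rY, CoxeterSystem.length_alternatingWord, CoxeterSystem.length_alternatingWord] at h3
    omega
  have hnm : n = m := by
    obtain ⟨c, hc⟩ := hdvd
    have : c = 1 := by
      rcases c with _ | _ | c
      · omega
      · rfl
      · exfalso
        have : 2 * m ≤ m * (c + 1 + 1) := by nlinarith
        omega
    rw [hc, this, mul_one]
  have hMn : M a a' = n := by rw [hM, ← hm, hnm]
  have hMn' : M a' a = n := by rw [M.symmetric, hMn]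
  have := (M.toCoxeterSystem).wordProd_braidWord_eq a a'
  unfold CoxeterSystem.braidWord at this
  rw [hMn, hMn'] at this
  exact this

/-- the word property -/
theorem wp_all : ∀ n, WP f M n
  | 0 => by
    intro R R' hR hR' _ _ _
    rw [List.length_eq_zero_iff] at hR hR'
    rw [hR, hR']
  | q + 1 => by
    have hWP := wp_all q
    intro R R' hR hR' rR rR' hv
    by_contra hp
    cases R with
    | nil => simp at hR
    | cons a T =>
    cases R' with
    | nil => simp at hR'
    | cons a' T' =>
    have hinv : Inv f M q (val f (a :: T)) (a' :: T', a :: T) :=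
      ⟨hR', hR, rR', rR, hv.symm, rfl, hp⟩
    have hall := inv_all f M hsq hgen hE hWP hinv (q + 1)
    rw [Zseq_eq a a' T' T (q + 1) hR (q + 1) le_rfl] at hall
    obtain ⟨-, -, -, rY, vX, vY, hne'⟩ := hall
    simp only [Pw] at rY vX vY hne'
    have e1 : CoxeterSystem.alternatingWord a a' (q + 1) ++ List.take (q + 1 - (q + 1)) (a :: T) =
        CoxeterSystem.alternatingWord a a' (q + 1) := by simp
    have e2 : CoxeterSystem.alternatingWord a a' q ++ List.take (q + 1 - q) (a :: T) =
        CoxeterSystem.alternatingWord a' a (q + 1) := by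
      rw [CoxeterSystem.alternatingWord_succ, List.concat_eq_append]
      simp
    rw [e1] at rY vY hne'
    rw [e2] at vX hne'
    exact hne' (alt_final f M hsq hgen hM a a' (by omega) rY (vX.trans vY.symm))

include hne

/-- every word has the same image as a reduced word with the same value -/
theorem exists_red (L : List B) : ∃ R, Red f R ∧ val f R = val f L ∧ pw M R = pw M L := by
  induction L with
  | nil => exact ⟨[], by unfold Red; rw [val_nil, len_one]; rfl, rfl, rfl⟩
  | cons b L ih =>
    obtain ⟨R, rR, vR, pR⟩ := ih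
    have hS := hS' f hsq hgen
    by_cases h : len (Set.range f) (val f R) ≤ len (Set.range f) (f b * val f R)
    · refine ⟨b :: R, ?_, by rw [val_cons, val_cons, vR], by rw [pw_cons, pw_cons, pR]⟩
      unfold Red at *
      rw [val_cons, List.length_cons]
      have h1 := hne (f b) (Set.mem_range_self b) (val f R)
      have h2 := len_mul_le hS hgen (Set.mem_range_self b) (val f R)
      omega
    · have h' : ¬ len (Set.range f) ((R.map f).prod) ≤ len (Set.range f) (f b * (R.map f).prod) := h
      obtain ⟨L₁, s₀, L₂, hL, he⟩ := hE (R.map f) (isWord_map f R) (f b) (Set.mem_range_self b) h'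
      obtain ⟨R₁, R₂', rfl, rfl, h2⟩ := List.map_eq_append_iff.mp hL
      obtain ⟨b₀, R₂, rfl, rfl, rfl⟩ := List.map_eq_cons_iff.mp h2
      have he' : f b * val f R₁ = val f R₁ * f b₀ := he
      have hv : val f (R₁ ++ R₂) = f b * val f (R₁ ++ b₀ :: R₂) := by
        rw [val_append, val_append, val_cons, ← mul_assoc, ← mul_assoc, he', mul_assoc (val f R₁),
          hsq, mul_one]
      have e1 : R₁ ++ b₀ :: R₂ = (R₁ ++ [b₀]) ++ R₂ := by simp
      have r1 : Red f (R₁ ++ [b₀]) := by
        rw [e1] at rR
        exact (red_append f hsq hgen rR).1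
      have hv1 : val f (b :: R₁) = val f (R₁ ++ [b₀]) := by
        rw [val_cons, val_append, val_singleton, he']
      have r2 : Red f (b :: R₁) := red_of_val_eq f hsq hgen r1 hv1 (by simp)
      have hp1 : pw M (b :: R₁) = pw M (R₁ ++ [b₀]) :=
        wp_all f M hsq hgen hE hM (R₁.length + 1) _ _ (by simp) (by simp) r2 r1 hv1
      refine ⟨R₁ ++ R₂, ?_, ?_, ?_⟩
      · unfold Red at rR ⊢
        rw [hv]
        have h1 := len_le_mul hS hgen (Set.mem_range_self b) (val f (R₁ ++ b₀ :: R₂))
        have h2 := len_val_le f (R₁ ++ R₂)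
        rw [hv] at h2
        simp only [List.length_append, List.length_cons] at rR h2 ⊢
        omega
      · rw [hv, val_cons, vR]
      · rw [pw_cons, ← pR, pw_append, pw_append, pw_cons]
        rw [pw_cons, pw_append, pw_singleton] at hp1
        rw [← mul_assoc, ← mul_assoc, hp1, mul_assoc (pw M R₁), simple_sq, mul_one]

/-- a word with trivial value has trivial image in the Coxeter group -/
theorem pw_eq_one_of_val {L : List B} (h : val f L = 1) : pw M L = 1 := by
  obtain ⟨R, rR, vR, pR⟩ := exists_red f M hsq hgen hne hE hM L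
  unfold Red at rR
  rw [vR, h, len_one] at rR
  have : R = [] := List.length_eq_zero_iff.mp rR.symm
  rw [← pR, this, pw_nil]

end wp

section final

variable (hinj : Function.Injective f) (hsq : ∀ b, f b * f b = 1)

/-- the Coxeter matrix of orders of products -/
noncomputable def coxMat : CoxeterMatrix B where
  M := Matrix.of fun b b' => orderOf (f b * f b')
  isSymm := by
    ext b b'
    simp only [Matrix.transpose_apply, Matrix.of_apply]
    have : f b' * f b = (f b * f b')⁻¹ := by
      rw [mul_inv_rev, inv_eq_of_mul_eq_one_left (hsq b), inv_eq_of_mul_eq_one_left (hsq b')]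
    rw [this, orderOf_inv]
  diagonal b := by
    simp only [Matrix.of_apply]
    rw [hsq, orderOf_one]
  off_diagonal b b' h := by
    simp only [Matrix.of_apply]
    intro h1
    rw [orderOf_eq_one_iff] at h1
    apply h
    apply hinj
    have : f b = (f b')⁻¹ := eq_inv_of_mul_eq_one_left h1
    rw [this, inv_eq_of_mul_eq_one_left (hsq b')]

theorem coxMat_apply (b b' : B) : coxMat f hinj hsq b b' = orderOf (f b * f b') := rfl

include hinj hsq in
/-- **Matsumoto–Tits**: a group generated by involutions satisfying the exchange condition is a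
Coxeter group, with Coxeter matrix the orders of the products of the generators. -/
theorem exists_coxeterSystem (hgen : Subgroup.closure (Set.range f) = ⊤)
    (hne : ∀ s ∈ Set.range f, ∀ w, len (Set.range f) (s * w) ≠ len (Set.range f) w)
    (hE : Exch (Set.range f)) :
    ∃ (M : CoxeterMatrix B) (cs : CoxeterSystem M W), ∀ b, cs.simple b = f b := by
  set M := coxMat f hinj hsq with hMdef
  have hM : ∀ b b', M b b' = orderOf (f b * f b') := fun _ _ => rfl
  have hl : M.IsLiftable f := by
    intro i i'
    rw [hM]
    exact pow_orderOf_eq_one _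
  set φ : M.Group →* W := (M.toCoxeterSystem).lift ⟨f, hl⟩ with hφ
  have hφs : ∀ b, φ (M.simple b) = f b := by
    intro b
    have := (M.toCoxeterSystem).lift_apply_simple hl b
    rwa [CoxeterMatrix.toCoxeterSystem_simple] at this
  have hφw : ∀ L : List B, φ (pw M L) = val f L := by
    intro L
    induction L with
    | nil => rw [pw_nil, map_one, val_nil]
    | cons b L ih => rw [pw_cons, map_mul, hφs, ih, val_cons]
  have hinjφ : Function.Injective φ := by
    rw [injective_iff_map_eq_one]
    intro x hx
    obtain ⟨L, rfl⟩ := (M.toCoxeterSystem).wordProd_surjective x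
    have h1 : val f L = 1 := by rw [← hφw L]; exact hx
    exact pw_eq_one_of_val f M hsq hgen hne hE hM h1
  have hsurjφ : Function.Surjective φ := by
    rw [← MonoidHom.range_eq_top, eq_top_iff, ← hgen, Subgroup.closure_le]
    rintro _ ⟨b, rfl⟩
    exact ⟨M.simple b, hφs b⟩
  refine ⟨M, ⟨(MulEquiv.ofBijective φ ⟨hinjφ, hsurjφ⟩).symm⟩, ?_⟩
  intro b
  show (MulEquiv.ofBijective φ ⟨hinjφ, hsurjφ⟩).symm.symm (PresentedGroup.of b) = f b
  rw [MulEquiv.symm_symm]
  exact hφs b

end final

end Cfsg.Agent.Lib.Helper3.Cox
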