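import Mathlib
import Cfsg.Prelude.Def_LieExceptional
import Cfsg.Agent.Lib.Helper3.BNBruhat
import Cfsg.Agent.Lib.Helper3.CoxExch

set_option autoImplicit false

/-! The Weyl group of a (B,N)-pair is a Coxeter group. -/

namespace Cfsg.Agent.Lib.Helper3.BN

open Cfsg WordLen

variable {G : Type*} [Group G] (P : Cfsg.BNPair G)

/-- the distinguished generators, indexed by `P.S` -/
def genW (s : P.S) : W P := sb P s.1 s.2

theorem range_genW : Set.range (genW P) = Sbar P := by
  ext w
  constructor
  · rintro ⟨s, rfl⟩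
    exact sb_mem P s.2
  · rintro ⟨s, hs, rfl⟩
    exact ⟨⟨s, hs⟩, rfl⟩

theorem weyl_coxeter : ∃ (M : CoxeterMatrix P.S) (cs : CoxeterSystem M (W P)),
    ∀ s : P.S, cs.simple s = genW P s := by
  apply Cox.exists_coxeterSystem (genW P)
  · intro s s' h
    exact Subtype.ext (Sbar_inj P s.2 s'.2 h)
  · intro s
    exact sb_sq P s.2
  · rw [range_genW]
    exact Sbar_closure P
  · rw [range_genW]
    rintro _ ⟨s, hs, rfl⟩ w
    exact len_ne P hs
  · rw [range_genW]
    intro L hL s hs h
    obtain ⟨s', hs', rfl⟩ := hs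
    exact exchange P L hL hs' h

end Cfsg.Agent.Lib.Helper3.BN
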