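import Mathlib

set_option autoImplicit false

namespace Cfsg.Agent.Lib.Helper3

theorem sq_of_order {G : Type*} [Group G] {d : G} (h : orderOf d = 2) : d * d = 1 := by
  have := pow_orderOf_eq_one d
  rw [h, pow_two] at this
  exact this

theorem inv_of_sq {G : Type*} [Group G] {x : G} (hx : x * x = 1) : x⁻¹ = x :=
  inv_eq_of_mul_eq_one_left hx

/-- for involutions, `(x*y)^2 = 1` gives commutation -/
theorem comm_of_sq {G : Type*} [Group G] {x y : G} (hx : x * x = 1) (hy : y * y = 1)
    (h : (x * y) ^ 2 = 1) : Commute x y := by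
  rw [pow_two] at h
  have h1 : x * y = (x * y)⁻¹ := eq_inv_of_mul_eq_one_left h
  have hxi : x⁻¹ = x := inv_eq_of_mul_eq_one_left hx
  have hyi : y⁻¹ = y := inv_eq_of_mul_eq_one_left hy
  rw [mul_inv_rev, hxi, hyi] at h1
  exact h1

/-- for involutions, `(x*y)^3 = 1` gives the braid relation -/
theorem braid_of_cube {G : Type*} [Group G] {x y : G} (hx : x * x = 1) (hy : y * y = 1)
    (h : (x * y) ^ 3 = 1) : x * y * x = y * x * y := by
  have hxi : x⁻¹ = x := inv_eq_of_mul_eq_one_left hx
  have hyi : y⁻¹ = y := inv_eq_of_mul_eq_one_left hy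
  have h3 : (x * y) * ((x * y) * (x * y)) = 1 := by
    rw [← h]; simp [pow_succ, mul_assoc]
  have h4 : x * y * x = ((y * x) * y)⁻¹⁻¹ := by
    rw [inv_inv]
    have : (x * y * x) * (y * x * y) = 1 := by
      rw [← h3]; simp [mul_assoc]
    have h5 := eq_inv_of_mul_eq_one_left this
    rw [h5]
    simp [mul_inv_rev, hxi, hyi, mul_assoc]
  rw [h4, inv_inv]

end Cfsg.Agent.Lib.Helper3
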