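import Mathlib
import Cfsg.Prelude.Def_Sporadic_a
import Cfsg.Agent.Lib.Helper3.Golay.M11Base
import Cfsg.Agent.Lib.Helper3.Golay.OctadStab

set_option autoImplicit false

/-! The group generated by eight explicit permutations of twelve points is the Mathieu group of
degree 12: data and certificates.  The twelve points are identified with the points of the base
dodecad of the length-24 code so that the generators become restrictions of elements of the
stabilizer of the dodecad. -/

namespace Cfsg.Agent.Lib.Helper3.M12Fin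

open Cfsg
open Cfsg.Agent.Lib.Helper3.Golay

/-- the tables of the eight generators `s, t, u, v, w, x₁, x₂, x₃` -/
def genL : List (List ℕ) := [
  [0, 1, 2, 4, 5, 3, 7, 8, 6, 10, 11, 9],
  [0, 1, 2, 6, 7, 8, 9, 10, 11, 3, 4, 5],
  [0, 1, 2, 3, 6, 9, 5, 8, 11, 4, 7, 10],
  [0, 1, 2, 3, 7, 11, 10, 5, 6, 8, 9, 4],
  [0, 1, 2, 3, 10, 8, 11, 6, 4, 7, 5, 9],
  [3, 1, 2, 0, 4, 5, 7, 6, 10, 11, 8, 9],
  [1, 0, 2, 3, 4, 5, 9, 10, 11, 6, 7, 8],
  [0, 2, 1, 3, 4, 5, 11, 9, 10, 7, 8, 6]]

/-- the points of the base dodecad corresponding to `0, …, 11` -/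
def dL : List ℕ := [2, 1, 0, 3, 4, 12, 13, 8, 9, 18, 6, 16]

/-- elements of the stabilizer of the base dodecad restricting to the generators -/
def sigL : List (List ℕ) := [
  [0, 1, 2, 4, 12, 15, 16, 7, 9, 13, 10, 22, 3, 8, 21, 19, 18, 17, 6, 5, 14, 20, 23, 11],
  [0, 1, 2, 13, 8, 19, 4, 17, 6, 16, 7, 22, 9, 18, 14, 5, 12, 10, 3, 15, 20, 21, 23, 11],
  [0, 1, 2, 3, 13, 23, 8, 21, 9, 16, 20, 19, 18, 12, 17, 11, 6, 14, 4, 22, 7, 10, 15, 5],
  [0, 1, 2, 3, 8, 17, 18, 15, 12, 13, 19, 21, 16, 6, 23, 10, 4, 5, 9, 7, 11, 22, 20, 14],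
  [0, 1, 2, 3, 6, 14, 12, 22, 13, 4, 11, 7, 9, 16, 5, 21, 18, 23, 8, 20, 15, 19, 10, 17],
  [0, 1, 3, 2, 4, 5, 9, 10, 13, 6, 7, 11, 12, 8, 14, 20, 18, 23, 16, 21, 15, 19, 22, 17],
  [0, 2, 1, 3, 4, 23, 8, 10, 6, 16, 7, 15, 12, 18, 14, 11, 9, 17, 13, 22, 20, 21, 19, 5],
  [1, 0, 2, 3, 4, 14, 9, 10, 18, 6, 7, 11, 12, 16, 5, 21, 13, 17, 8, 20, 19, 15, 22, 23]]

/-- the base points -/
def bsL : List ℕ := [2, 1, 0, 3, 4]

/-- straight-line program (products only) for the transversals of the levels `1, …, 4`, from the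
first seven generators -/
def prog11 : List (ℕ × ℕ) := [(5, 6), (0, 7), (1, 7), (0, 8), (1, 8), (4, 8), (1, 9), (4, 9), (1, 10), (0, 5), (1, 5), (0, 16), (1, 16), (4, 16), (1, 17), (4, 17), (1, 18), (0, 0), (1, 0), (4, 0), (1, 1), (4, 1), (1, 24), (2, 2), (4, 2), (2, 3), (3, 4)]

/-- straight-line program for the transversal of level `0`, from all eight generators -/
def prog12 : List (ℕ × ℕ) := [(6, 7), (5, 8), (0, 9), (1, 9), (0, 10), (1, 10), (4, 10), (1, 11), (4, 11), (1, 12)]

/-- run a straight-line program of products -/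
def runM : List (ℕ × ℕ) → List (List ℕ) → List (List ℕ)
  | [], acc => acc
  | i :: is, acc =>
    runM is (acc ++ [compT (acc.getD i.1 (List.range 12)) (acc.getD i.2 (List.range 12))])

/-- the table fixes the first `k` base points -/
def fixesP (T : List ℕ) (k : ℕ) : Bool :=
  allBelow k (fun j => Nat.beq (T.getD (bsL.getD j 0) 0) (bsL.getD j 0))

/-- the tables of `L` fixing the first `k` base points map the next base point to every point other
than the first `k` base points -/
def lvlOK12 (L : List (List ℕ)) (k : ℕ) : Bool :=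
  allBelow 12 (fun δ => !(allBelow k (fun j => !(Nat.beq (bsL.getD j 0) δ))) ||
    L.any (fun T => fixesP T k && Nat.beq (T.getD (bsL.getD k 0) 0) δ))

/-- the tables computed from the first seven generators -/
def acc11 : List (List ℕ) := runM prog11 (genL.take 7) ++ [List.range 12]

/-- the tables computed from all eight generators -/
def acc12 : List (List ℕ) := runM prog12 genL ++ [List.range 12]

theorem acc12_ok : lvlOK12 acc12 0 = true := by decide +kernel
theorem acc11_ok : (lvlOK12 acc11 1 && lvlOK12 acc11 2 && lvlOK12 acc11 3 && lvlOK12 acc11 4) = true := by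
  decide +kernel

/-- the first seven generators fix the first base point -/
theorem gen7_fix : (genL.take 7).all (fun T => fixesP T 1) = true := by decide +kernel

/-- the elements of the stabilizer of the base dodecad -/
theorem sigL_ok : sigL.all (tblOK d0) = true := by decide +kernel

/-- they restrict to the generators -/
theorem sigL_gen : allBelow 8 (fun i => allBelow 12 (fun j =>
    Nat.beq ((sigL.getD i []).getD (dL.getD j 0) 0) (dL.getD ((genL.getD i []).getD j 0) 0))) = true := by
  decide +kernel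

end Cfsg.Agent.Lib.Helper3.M12Fin
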