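import Mathlib
import Cfsg.Prelude.Def_Sporadic_a
import Cfsg.Agent.Lib.Helper3.M12FinCert

set_option autoImplicit false

/-! The group generated by eight explicit permutations of twelve points: it is the image of the
stabilizer of the base dodecad of the length-24 code, sharply 5-transitive of order 95040, and the
first seven permutations generate the stabilizer of a point, of order 7920. -/

namespace Cfsg.Agent.Lib.Helper3.M12Fin

open Cfsg
open Cfsg.Agent.Lib.Helper3.Golay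
open scoped Pointwise

/-- `σ` has table `T` -/
def HasT (σ : Equiv.Perm (Fin 12)) (T : List ℕ) : Prop :=
  T.length = 12 ∧ ∀ i : Fin 12, (σ i).val = T.getD i.val 0

theorem HasT.lt {σ : Equiv.Perm (Fin 12)} {T : List ℕ} (h : HasT σ T) {i : ℕ} (hi : i < 12) :
    T.getD i 0 < 12 := by
  have := h.2 ⟨i, hi⟩
  rw [← this]
  exact (σ ⟨i, hi⟩).2

theorem HasT.one : HasT 1 (List.range 12) := by
  refine ⟨by simp, ?_⟩
  intro i
  rw [Equiv.Perm.one_apply, List.getD_eq_getElem _ _ (by simp)]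
  simp

theorem HasT.mul {σ τ : Equiv.Perm (Fin 12)} {S T : List ℕ} (hσ : HasT σ S) (hτ : HasT τ T) :
    HasT (σ * τ) (compT S T) := by
  refine ⟨by simp [compT, hτ.1], ?_⟩
  intro i
  rw [compT_getD S T (by rw [hτ.1]; exact i.2), Equiv.Perm.mul_apply, hσ.2, hτ.2]

theorem HasT.ext {σ τ : Equiv.Perm (Fin 12)} {T : List ℕ} (hσ : HasT σ T) (hτ : HasT τ T) :
    σ = τ := by
  ext i
  rw [hσ.2, hτ.2]

/-- every table of the list belongs to an element of `K` -/
def SoundT (K : Subgroup (Equiv.Perm (Fin 12))) (acc : List (List ℕ)) : Prop :=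
  ∀ T ∈ acc, ∃ σ ∈ K, HasT σ T

theorem SoundT.getD {K : Subgroup (Equiv.Perm (Fin 12))} {acc : List (List ℕ)} (h : SoundT K acc)
    (j : ℕ) : ∃ σ ∈ K, HasT σ (acc.getD j (List.range 12)) := by
  by_cases hj : j < acc.length
  · rw [List.getD_eq_getElem _ _ hj]
    exact h _ (List.getElem_mem hj)
  · rw [List.getD_eq_default _ _ (by omega)]
    exact ⟨1, K.one_mem, HasT.one⟩

theorem SoundT.runM {K : Subgroup (Equiv.Perm (Fin 12))} (prog : List (ℕ × ℕ)) :
    ∀ acc : List (List ℕ), SoundT K acc → SoundT K (runM prog acc) := by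
  induction prog with
  | nil => intro acc h; exact h
  | cons i is ih =>
    intro acc h
    apply ih
    intro T hT
    rw [List.mem_append, List.mem_singleton] at hT
    rcases hT with hT | rfl
    · exact h T hT
    · obtain ⟨σ, hσ, hσT⟩ := h.getD i.1
      obtain ⟨τ, hτ, hτT⟩ := h.getD i.2
      exact ⟨σ * τ, K.mul_mem hσ hτ, hσT.mul hτT⟩

theorem SoundT.append_one {K : Subgroup (Equiv.Perm (Fin 12))} {acc : List (List ℕ)}
    (h : SoundT K acc) : SoundT K (acc ++ [List.range 12]) := by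
  intro T hT
  rw [List.mem_append, List.mem_singleton] at hT
  rcases hT with hT | rfl
  · exact h T hT
  · exact ⟨1, K.one_mem, HasT.one⟩

/-- the point of the base dodecad corresponding to `i` -/
def φ (i : Fin 12) : GolayPt := pt (dL.getD i.val 0)

theorem φ_mem : ∀ i : Fin 12, d0.testBit (idx (φ i)) = true := by decide +kernel

theorem φ_inj : ∀ i j : Fin 12, φ i = φ j → i = j := by decide +kernel

theorem card_d0 : Fintype.card ↥(bitSet d0) = 12 := by
  rw [Fintype.card_coe, card_bitSet']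
  decide +kernel

/-- the twelve points as the points of the base dodecad -/
noncomputable def e12 : Fin 12 ≃ ↥(bitSet d0) :=
  Equiv.ofBijective (fun i => ⟨φ i, mem_bitSet.mpr (φ_mem i)⟩) (by
    rw [Fintype.bijective_iff_injective_and_card]
    refine ⟨?_, by rw [card_d0]; rfl⟩
    intro i j h
    exact φ_inj i j (congrArg Subtype.val h))

theorem e12_apply (i : Fin 12) : (e12 i : GolayPt) = φ i := rfl

/-- the action of the stabilizer of the base dodecad on the twelve points -/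
noncomputable def Ψ : ↥(M24 ⊓ MulAction.stabilizer (Equiv.Perm GolayPt) (bitSet d0)) →*
    Equiv.Perm (Fin 12) :=
  (Equiv.permCongrHom e12.symm).toMonoidHom.comp (restr (bitSet d0))

theorem Ψ_apply (σ : ↥(M24 ⊓ MulAction.stabilizer (Equiv.Perm GolayPt) (bitSet d0))) (i : Fin 12) :
    φ (Ψ σ i) = σ.1 (φ i) := by
  have h1 : Ψ σ i = e12.symm (restr (bitSet d0) σ (e12 i)) := rfl
  rw [← e12_apply, h1, Equiv.apply_symm_apply]
  rfl

theorem dL_lt : ∀ i : Fin 12, dL.getD i.val 0 < 24 := by decide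

/-- a permutation given by a table is the restriction of an element of the stabilizer of the base
dodecad given by a table -/
theorem mem_range_of_tbl {g : Equiv.Perm (Fin 12)} {gT sT : List ℕ} (hg : HasT g gT)
    (hs : tblOK d0 sT = true)
    (h : ∀ j : Fin 12, sT.getD (dL.getD j.val 0) 0 = dL.getD (gT.getD j.val 0) 0) : g ∈ Ψ.range := by
  obtain ⟨σ, hσ, hσT⟩ := tblOK_sound hs
  refine ⟨⟨σ, hσ⟩, ?_⟩
  ext i : 1
  apply φ_inj
  rw [Ψ_apply]
  show σ (pt (dL.getD i.val 0)) = pt (dL.getD (g i).val 0)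
  rw [hσT.apply (dL_lt i), h i, hg.2 i]

/-- the base points -/
def bF (j : ℕ) : Fin 12 := ⟨bsL.getD j 0 % 12, Nat.mod_lt _ (by norm_num)⟩

theorem bF_val : ∀ j < 5, (bF j).val = bsL.getD j 0 := by decide

theorem bF_inj : ∀ i < 5, ∀ j < 5, bF i = bF j → i = j := by decide

theorem φ_bF : ∀ j < 5, φ (bF j) = b2 j := by decide +kernel

/-- an element of the range fixing the five base points is trivial -/
theorem eq_one_of_fix5 {g : Equiv.Perm (Fin 12)} (hg : g ∈ Ψ.range) (h : ∀ j < 5, g (bF j) = bF j) :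
    g = 1 := by
  obtain ⟨σ, rfl⟩ := hg
  have : σ.1 ∈ H12 ⊓ fixSeq (Equiv.Perm GolayPt) b2 5 := by
    refine Subgroup.mem_inf.mpr ⟨σ.2, ?_⟩
    rw [mem_fixSeq]
    intro j hj
    rw [Equiv.Perm.smul_def, ← φ_bF j hj, ← Ψ_apply, h j hj]
  rw [H12_fix5, Subgroup.mem_bot] at this
  have h1 : σ = 1 := Subtype.ext this
  rw [h1, map_one]

/-- soundness of a level check -/
theorem lvl_sound {K : Subgroup (Equiv.Perm (Fin 12))} {L : List (List ℕ)} (hL : SoundT K L) {k : ℕ}
    (hk : k < 5) (hc : lvlOK12 L k = true) (δ : Fin 12) (hδ : ∀ j < k, δ ≠ bF j) :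
    ∃ u ∈ K ⊓ fixSeq (Equiv.Perm (Fin 12)) bF k, u • bF k = δ := by
  unfold lvlOK12 at hc
  have h1 := (allBelow_iff _ _).mp hc δ.val δ.2
  have h2 : allBelow k (fun j => !(Nat.beq (bsL.getD j 0) δ.val)) = true := by
    rw [allBelow_iff]
    intro j hj
    rw [Bool.not_eq_true', Bool.eq_false_iff]
    intro h'
    apply hδ j hj
    apply Fin.ext
    rw [bF_val j (by omega)]
    exact (Nat.eq_of_beq_eq_true h').symm
  rw [h2] at h1
  simp only [Bool.not_true, Bool.false_or, List.any_eq_true, Bool.and_eq_true] at h1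
  obtain ⟨T, hTL, hfix, hmap⟩ := h1
  obtain ⟨σ, hσ, hσT⟩ := hL T hTL
  refine ⟨σ, Subgroup.mem_inf.mpr ⟨hσ, ?_⟩, ?_⟩
  · rw [mem_fixSeq]
    intro j hj
    unfold fixesP at hfix
    have := Nat.eq_of_beq_eq_true ((allBelow_iff _ _).mp hfix j hj)
    apply Fin.ext
    rw [Equiv.Perm.smul_def, hσT.2, bF_val j (by omega), this]
  · apply Fin.ext
    rw [Equiv.Perm.smul_def, hσT.2, bF_val k hk, Nat.eq_of_beq_eq_true hmap]

section main

variable {s t u v w x₁ x₂ x₃ : Equiv.Perm (Fin 12)}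

/-- the hypotheses: the eight permutations have the tables of `genL` -/
structure Gens (s t u v w x₁ x₂ x₃ : Equiv.Perm (Fin 12)) : Prop where
  hs : HasT s (genL.getD 0 [])
  ht : HasT t (genL.getD 1 [])
  hu : HasT u (genL.getD 2 [])
  hv : HasT v (genL.getD 3 [])
  hw : HasT w (genL.getD 4 [])
  hx₁ : HasT x₁ (genL.getD 5 [])
  hx₂ : HasT x₂ (genL.getD 6 [])
  hx₃ : HasT x₃ (genL.getD 7 [])

theorem sig_gen (i : ℕ) (hi : i < 8) : tblOK d0 (sigL.getD i []) = true ∧
    ∀ j : Fin 12, (sigL.getD i []).getD (dL.getD j.val 0) 0 = dL.getD ((genL.getD i []).getD j.val 0) 0 := by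
  constructor
  · have := List.all_eq_true.mp sigL_ok (sigL.getD i []) (by
      rw [List.getD_eq_getElem _ _ (by simpa [sigL] using hi)]
      exact List.getElem_mem _)
    exact this
  · intro j
    have := (allBelow_iff _ _).mp ((allBelow_iff _ _).mp sigL_gen i hi) j.val j.2
    exact Nat.eq_of_beq_eq_true this

theorem K12_le (H : Gens s t u v w x₁ x₂ x₃) :
    Subgroup.closure {s, t, u, v, w, x₁, x₂, x₃} ≤ Ψ.range := by
  rw [Subgroup.closure_le]
  intro g hg
  simp only [Set.mem_insert_iff, Set.mem_singleton_iff] at hg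
  rcases hg with rfl | rfl | rfl | rfl | rfl | rfl | rfl | rfl
  · exact mem_range_of_tbl H.hs (sig_gen 0 (by norm_num)).1 (sig_gen 0 (by norm_num)).2
  · exact mem_range_of_tbl H.ht (sig_gen 1 (by norm_num)).1 (sig_gen 1 (by norm_num)).2
  · exact mem_range_of_tbl H.hu (sig_gen 2 (by norm_num)).1 (sig_gen 2 (by norm_num)).2
  · exact mem_range_of_tbl H.hv (sig_gen 3 (by norm_num)).1 (sig_gen 3 (by norm_num)).2
  · exact mem_range_of_tbl H.hw (sig_gen 4 (by norm_num)).1 (sig_gen 4 (by norm_num)).2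
  · exact mem_range_of_tbl H.hx₁ (sig_gen 5 (by norm_num)).1 (sig_gen 5 (by norm_num)).2
  · exact mem_range_of_tbl H.hx₂ (sig_gen 6 (by norm_num)).1 (sig_gen 6 (by norm_num)).2
  · exact mem_range_of_tbl H.hx₃ (sig_gen 7 (by norm_num)).1 (sig_gen 7 (by norm_num)).2

theorem sound_gen7 (H : Gens s t u v w x₁ x₂ x₃) :
    SoundT (Subgroup.closure {s, t, u, v, w, x₁, x₂}) (genL.take 7) := by
  intro T hT
  have : T = genL.getD 0 [] ∨ T = genL.getD 1 [] ∨ T = genL.getD 2 [] ∨ T = genL.getD 3 [] ∨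
      T = genL.getD 4 [] ∨ T = genL.getD 5 [] ∨ T = genL.getD 6 [] := by
    simpa [genL] using hT
  rcases this with rfl | rfl | rfl | rfl | rfl | rfl | rfl
  · exact ⟨s, Subgroup.subset_closure (by simp), H.hs⟩
  · exact ⟨t, Subgroup.subset_closure (by simp), H.ht⟩
  · exact ⟨u, Subgroup.subset_closure (by simp), H.hu⟩
  · exact ⟨v, Subgroup.subset_closure (by simp), H.hv⟩
  · exact ⟨w, Subgroup.subset_closure (by simp), H.hw⟩
  · exact ⟨x₁, Subgroup.subset_closure (by simp), H.hx₁⟩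
  · exact ⟨x₂, Subgroup.subset_closure (by simp), H.hx₂⟩

theorem K11_le_K12 : Subgroup.closure {s, t, u, v, w, x₁, x₂} ≤
    Subgroup.closure {s, t, u, v, w, x₁, x₂, x₃} := by
  apply Subgroup.closure_mono
  intro g hg
  simp only [Set.mem_insert_iff, Set.mem_singleton_iff] at hg ⊢
  tauto

theorem sound_gen8 (H : Gens s t u v w x₁ x₂ x₃) :
    SoundT (Subgroup.closure {s, t, u, v, w, x₁, x₂, x₃}) genL := by
  intro T hT
  have : T = genL.getD 0 [] ∨ T = genL.getD 1 [] ∨ T = genL.getD 2 [] ∨ T = genL.getD 3 [] ∨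
      T = genL.getD 4 [] ∨ T = genL.getD 5 [] ∨ T = genL.getD 6 [] ∨ T = genL.getD 7 [] := by
    simpa [genL] using hT
  rcases this with rfl | rfl | rfl | rfl | rfl | rfl | rfl | rfl
  · exact ⟨s, Subgroup.subset_closure (by simp), H.hs⟩
  · exact ⟨t, Subgroup.subset_closure (by simp), H.ht⟩
  · exact ⟨u, Subgroup.subset_closure (by simp), H.hu⟩
  · exact ⟨v, Subgroup.subset_closure (by simp), H.hv⟩
  · exact ⟨w, Subgroup.subset_closure (by simp), H.hw⟩
  · exact ⟨x₁, Subgroup.subset_closure (by simp), H.hx₁⟩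
  · exact ⟨x₂, Subgroup.subset_closure (by simp), H.hx₂⟩
  · exact ⟨x₃, Subgroup.subset_closure (by simp), H.hx₃⟩

theorem sound_acc11 (H : Gens s t u v w x₁ x₂ x₃) :
    SoundT (Subgroup.closure {s, t, u, v, w, x₁, x₂}) acc11 :=
  (SoundT.runM prog11 _ (sound_gen7 H)).append_one

theorem sound_acc12 (H : Gens s t u v w x₁ x₂ x₃) :
    SoundT (Subgroup.closure {s, t, u, v, w, x₁, x₂, x₃}) acc12 :=
  (SoundT.runM prog12 _ (sound_gen8 H)).append_one

/-- transversals in the group generated by the eight permutations -/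
theorem trans12 (H : Gens s t u v w x₁ x₂ x₃) {k : ℕ} (hk : k < 5) (δ : Fin 12)
    (hδ : ∀ j < k, δ ≠ bF j) :
    ∃ g ∈ Subgroup.closure {s, t, u, v, w, x₁, x₂, x₃} ⊓ fixSeq (Equiv.Perm (Fin 12)) bF k,
      g • bF k = δ := by
  have h11 := acc11_ok
  simp only [Bool.and_eq_true] at h11
  obtain ⟨⟨⟨h1, h2⟩, h3⟩, h4⟩ := h11
  have hK : SoundT (Subgroup.closure {s, t, u, v, w, x₁, x₂, x₃}) acc11 := by
    intro T hT
    obtain ⟨σ, hσ, hσT⟩ := sound_acc11 H T hT
    exact ⟨σ, K11_le_K12 hσ, hσT⟩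
  interval_cases k
  · exact lvl_sound (sound_acc12 H) (by norm_num) acc12_ok δ hδ
  · exact lvl_sound hK (by norm_num) h1 δ hδ
  · exact lvl_sound hK (by norm_num) h2 δ hδ
  · exact lvl_sound hK (by norm_num) h3 δ hδ
  · exact lvl_sound hK (by norm_num) h4 δ hδ

/-- transversals in the group generated by the first seven permutations -/
theorem trans11 (H : Gens s t u v w x₁ x₂ x₃) {k : ℕ} (hk1 : 1 ≤ k) (hk : k < 5) (δ : Fin 12)
    (hδ : ∀ j < k, δ ≠ bF j) :
    ∃ g ∈ Subgroup.closure {s, t, u, v, w, x₁, x₂} ⊓ fixSeq (Equiv.Perm (Fin 12)) bF k,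
      g • bF k = δ := by
  have h11 := acc11_ok
  simp only [Bool.and_eq_true] at h11
  obtain ⟨⟨⟨h1, h2⟩, h3⟩, h4⟩ := h11
  interval_cases k
  · exact lvl_sound (sound_acc11 H) (by norm_num) h1 δ hδ
  · exact lvl_sound (sound_acc11 H) (by norm_num) h2 δ hδ
  · exact lvl_sound (sound_acc11 H) (by norm_num) h3 δ hδ
  · exact lvl_sound (sound_acc11 H) (by norm_num) h4 δ hδ

/-- the points different from the first `k` base points -/
def Δ12 (k : ℕ) : Finset (Fin 12) := Finset.univ.filter (fun y => ∀ j < k, y ≠ bF j)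

theorem card_Δ12 : ∀ k < 5, (Δ12 k).card = 12 - k := by decide

theorem mem_Δ12 {k : ℕ} {y : Fin 12} : y ∈ Δ12 k ↔ ∀ j < k, y ≠ bF j := by
  unfold Δ12
  simp

/-- the images of the base points stay away from the earlier base points -/
theorem hU12 (G : Subgroup (Equiv.Perm (Fin 12))) : ∀ k < 5,
    ∀ g ∈ G ⊓ fixSeq (Equiv.Perm (Fin 12)) bF k, g • bF k ∈ Δ12 k := by
  intro k hk g hg
  rw [mem_Δ12]
  intro j hj h
  have h1 := mem_fixSeq.mp hg.2 j hj
  rw [← h1] at h
  have := bF_inj k hk j (by omega) (smul_left_cancel g h)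
  omega

theorem hT12 : Ψ.range ⊓ fixSeq (Equiv.Perm (Fin 12)) bF 5 = ⊥ := by
  rw [eq_bot_iff]
  intro g hg
  rw [Subgroup.mem_bot]
  exact eq_one_of_fix5 hg.1 (fun j hj => mem_fixSeq.mp hg.2 j hj)

theorem chain12 (H : Gens s t u v w x₁ x₂ x₃) : ∀ m ≤ 5,
    Subgroup.closure {s, t, u, v, w, x₁, x₂, x₃} ⊓ fixSeq (Equiv.Perm (Fin 12)) bF (5 - m) =
      Ψ.range ⊓ fixSeq (Equiv.Perm (Fin 12)) bF (5 - m) ∧
    Nat.card ↥(Ψ.range ⊓ fixSeq (Equiv.Perm (Fin 12)) bF (5 - m)) =
      ∏ j ∈ Finset.Ico (5 - m) 5, (Δ12 j).card :=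
  chain Ψ.range (Subgroup.closure {s, t, u, v, w, x₁, x₂, x₃}) (K12_le H) bF Δ12 5
    (fixSeq (Equiv.Perm (Fin 12)) bF) (fun _ => rfl) (hU12 _)
    (fun _ hk δ hδ => trans12 H hk δ (mem_Δ12.mp hδ)) hT12

/-- the group generated by the eight permutations is the whole range -/
theorem K12_eq (H : Gens s t u v w x₁ x₂ x₃) :
    Subgroup.closure {s, t, u, v, w, x₁, x₂, x₃} = Ψ.range := by
  have := (chain12 H 5 le_rfl).1
  simpa [fixSeq] using this

theorem card_K12 (H : Gens s t u v w x₁ x₂ x₃) :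
    Nat.card ↥(Subgroup.closure {s, t, u, v, w, x₁, x₂, x₃}) = 95040 := by
  rw [K12_eq H]
  have := (chain12 H 5 le_rfl).2
  have h0 : Ψ.range ⊓ fixSeq (Equiv.Perm (Fin 12)) bF (5 - 5) = Ψ.range := by simp [fixSeq]
  rw [h0] at this
  rw [this]
  decide

/-- the stabilizer of the first base point in the range -/
theorem chain11 (H : Gens s t u v w x₁ x₂ x₃) : ∀ m ≤ 4,
    Subgroup.closure {s, t, u, v, w, x₁, x₂, x₃} ⊓ fixSeq (Equiv.Perm (Fin 12)) bF (5 - m) =
      Ψ.range ⊓ fixSeq (Equiv.Perm (Fin 12)) bF (5 - m) := fun m hm => (chain12 H m (by omega)).1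

theorem gen7_fix0 (H : Gens s t u v w x₁ x₂ x₃) :
    Subgroup.closure {s, t, u, v, w, x₁, x₂} ≤ MulAction.stabilizer (Equiv.Perm (Fin 12)) (bF 0) := by
  rw [Subgroup.closure_le]
  have key : ∀ (g : Equiv.Perm (Fin 12)) (i : ℕ), i < 7 → HasT g (genL.getD i []) → g • bF 0 = bF 0 := by
    intro g i hi hg
    have h1 := List.all_eq_true.mp gen7_fix (genL.getD i []) (by
      have : genL.getD i [] = (genL.take 7).getD i [] := by
        interval_cases i <;> rfl
      rw [this, List.getD_eq_getElem _ _ (by simpa [genL] using hi)]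
      exact List.getElem_mem _)
    unfold fixesP at h1
    have h2 := Nat.eq_of_beq_eq_true ((allBelow_iff _ _).mp h1 0 (by norm_num))
    apply Fin.ext
    rw [Equiv.Perm.smul_def, hg.2]
    exact h2
  intro g hg
  simp only [Set.mem_insert_iff, Set.mem_singleton_iff] at hg
  rw [SetLike.mem_coe, MulAction.mem_stabilizer_iff]
  rcases hg with rfl | rfl | rfl | rfl | rfl | rfl | rfl
  · exact key _ 0 (by norm_num) H.hs
  · exact key _ 1 (by norm_num) H.ht
  · exact key _ 2 (by norm_num) H.hu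
  · exact key _ 3 (by norm_num) H.hv
  · exact key _ 4 (by norm_num) H.hw
  · exact key _ 5 (by norm_num) H.hx₁
  · exact key _ 6 (by norm_num) H.hx₂

/-- the group generated by the first seven permutations is the stabilizer of the first base point -/
theorem K11_eq (H : Gens s t u v w x₁ x₂ x₃) :
    Subgroup.closure {s, t, u, v, w, x₁, x₂} =
      Subgroup.closure {s, t, u, v, w, x₁, x₂, x₃} ⊓
        MulAction.stabilizer (Equiv.Perm (Fin 12)) (bF 0) := by
  apply le_antisymm (le_inf K11_le_K12 (gen7_fix0 H))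
  -- descend along the chain
  have step : ∀ m ≤ 4, Subgroup.closure {s, t, u, v, w, x₁, x₂, x₃} ⊓
      fixSeq (Equiv.Perm (Fin 12)) bF (5 - m) ≤ Subgroup.closure {s, t, u, v, w, x₁, x₂} := by
    intro m
    induction m with
    | zero =>
      intro _
      rw [Nat.sub_zero, K12_eq H, hT12]
      exact bot_le
    | succ m ih =>
      intro hm
      have ih' := ih (by omega)
      intro g hg
      have hk : 5 - (m + 1) < 5 := by omega
      have hk1 : 1 ≤ 5 - (m + 1) := by omega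
      have hδ := hU12 _ (5 - (m + 1)) hk g hg
      obtain ⟨a, ha, hag⟩ := trans11 H hk1 hk _ (mem_Δ12.mp hδ)
      have h1 : a⁻¹ * g ∈ Subgroup.closure {s, t, u, v, w, x₁, x₂, x₃} ⊓
          fixSeq (Equiv.Perm (Fin 12)) bF (5 - m) := by
        have e : 5 - m = (5 - (m + 1)) + 1 := by omega
        rw [e]
        refine Subgroup.mem_inf.mpr ⟨Subgroup.mul_mem _ (Subgroup.inv_mem _ (K11_le_K12 ha.1)) hg.1, ?_⟩
        show a⁻¹ * g ∈ fixSeq (Equiv.Perm (Fin 12)) bF (5 - (m + 1)) ⊓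
          MulAction.stabilizer (Equiv.Perm (Fin 12)) (bF (5 - (m + 1)))
        refine Subgroup.mem_inf.mpr ⟨Subgroup.mul_mem _ (Subgroup.inv_mem _ ha.2) hg.2, ?_⟩
        rw [MulAction.mem_stabilizer_iff, mul_smul, ← hag, inv_smul_smul]
      have h2 := ih' h1
      have h3 := Subgroup.mul_mem _ ha.1 h2
      rwa [mul_inv_cancel_left] at h3
  have := step 4 le_rfl
  have e : fixSeq (Equiv.Perm (Fin 12)) bF (5 - 4) =
      MulAction.stabilizer (Equiv.Perm (Fin 12)) (bF 0) := by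
    show fixSeq (Equiv.Perm (Fin 12)) bF 1 = _
    simp [fixSeq]
  rwa [e] at this

theorem card_K11 (H : Gens s t u v w x₁ x₂ x₃) :
    Nat.card ↥(Subgroup.closure {s, t, u, v, w, x₁, x₂}) = 7920 := by
  rw [K11_eq H, K12_eq H]
  have := (chain12 H 4 (by norm_num)).2
  have e : fixSeq (Equiv.Perm (Fin 12)) bF (5 - 4) =
      MulAction.stabilizer (Equiv.Perm (Fin 12)) (bF 0) := by
    show fixSeq (Equiv.Perm (Fin 12)) bF 1 = _
    simp [fixSeq]
  rw [e] at this
  rw [this]
  decide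

/-- the base points can be mapped to any five distinct points -/
theorem exists_map_base12 (H : Gens s t u v w x₁ x₂ x₃) (x : ℕ → Fin 12)
    (hx : ∀ i < 5, ∀ j < 5, x i = x j → i = j) :
    ∃ g ∈ Subgroup.closure {s, t, u, v, w, x₁, x₂, x₃}, ∀ j < 5, g • bF j = x j :=
  exists_map_base_of_trans (Subgroup.closure {s, t, u, v, w, x₁, x₂, x₃}) Set.univ bF 5
    (fun _ _ _ => by simp)
    (fun k hk y _ hy => by
      obtain ⟨g, hg, hgy⟩ := trans12 H hk y hy
      exact ⟨g, hg.1, fun j hj => mem_fixSeq.mp hg.2 j hj, hgy⟩)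
    x 5 le_rfl (fun _ _ => Set.mem_univ _) hx

theorem five_transitive12 (H : Gens s t u v w x₁ x₂ x₃) :
    MulAction.IsMultiplyPretransitive ↥(Subgroup.closure {s, t, u, v, w, x₁, x₂, x₃}) (Fin 12) 5 := by
  refine ⟨fun x y => ?_⟩
  obtain ⟨g1, hg1, h1⟩ := exists_map_base12 H (fun i => if h : i < 5 then x ⟨i, h⟩ else 0)
    (by
      intro i hi j hj h
      simp only [hi, hj, dif_pos] at h
      simpa using x.injective h)
  obtain ⟨g2, hg2, h2⟩ := exists_map_base12 H (fun i => if h : i < 5 then y ⟨i, h⟩ else 0)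
    (by
      intro i hi j hj h
      simp only [hi, hj, dif_pos] at h
      simpa using y.injective h)
  refine ⟨⟨g2 * g1⁻¹, Subgroup.mul_mem _ hg2 (Subgroup.inv_mem _ hg1)⟩, ?_⟩
  ext i : 1
  have e1 := h1 i.1 i.2
  have e2 := h2 i.1 i.2
  simp only [i.2, dif_pos, Fin.eta] at e1 e2
  rw [Function.Embedding.smul_apply]
  show (g2 * g1⁻¹) • x i = y i
  rw [← e1, ← e2, mul_smul, inv_smul_smul]

theorem sharp12 (H : Gens s t u v w x₁ x₂ x₃) (y : Fin 5 ↪ Fin 12) :
    MulAction.stabilizer ↥(Subgroup.closure {s, t, u, v, w, x₁, x₂, x₃}) y = ⊥ := by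
  rw [eq_bot_iff]
  rintro ⟨g, hg⟩ hgy
  rw [Subgroup.mem_bot]
  apply Subtype.ext
  show g = 1
  rw [MulAction.mem_stabilizer_iff] at hgy
  have hfix : ∀ i : Fin 5, g (y i) = y i := by
    intro i
    have := congrArg (fun f : Fin 5 ↪ Fin 12 => f i) hgy
    simpa [Function.Embedding.smul_apply] using this
  obtain ⟨a, ha, h1⟩ := exists_map_base12 H (fun i => if h : i < 5 then y ⟨i, h⟩ else 0)
    (by
      intro i hi j hj h
      simp only [hi, hj, dif_pos] at h
      simpa using y.injective h)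
  have h2 : a⁻¹ * g * a = 1 := by
    apply eq_one_of_fix5 (K12_le H (Subgroup.mul_mem _ (Subgroup.mul_mem _ (Subgroup.inv_mem _ ha) hg) ha))
    intro j hj
    have e1 := h1 j hj
    simp only [hj, dif_pos] at e1
    have e1' : a (bF j) = y ⟨j, hj⟩ := e1
    rw [Equiv.Perm.mul_apply, Equiv.Perm.mul_apply, e1', hfix, ← e1']
    simp
  have := congrArg (fun z => a * z * a⁻¹) h2
  simpa [mul_assoc] using this

end main

end Cfsg.Agent.Lib.Helper3.M12Fin
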