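import Mathlib
import Cfsg.Prelude.Def_ClassicalGeometry
import Cfsg.Prelude.Def_GeometricClasses
import Cfsg.Agent.Lib.Helper2.OTGDefs
import Cfsg.Agent.Lib.Helper2.OTGW

/-!
S5681 / S5709 PART (GA'), leaf (C5) `alpha_pm_one`: the `A`-factor of the involution `b₁ = α ⊗ β` is `±1`.
-/

set_option autoImplicit false
set_option linter.unusedSectionVars false
set_option linter.unusedVariables false

namespace Cfsg.Agent.Lib.Helper3.OTGLeaf
open Matrix Module
open Cfsg.Agent.Lib.Helper25.Tens Cfsg.Agent.Lib.Helper19.OSub Cfsg.Agent.Lib.Helper25.OT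
open Cfsg.Agent.Lib.Helper2.SOT (fB gim mem_gim fB_add_left fB_add_right fB_smul_left fB_smul_right
  fB_comm)
open Cfsg.Agent.Lib.Helper2.OTG
open scoped Kronecker

variable {F : Type*} [Field F] [Fintype F] {a b : ℕ} {G1 : Matrix (Fin a) (Fin a) F}
  {G2 : Matrix (Fin b) (Fin b) F} {M : Subgroup (GL (Idx a b) F)}

/-- the map `v ↦ (fB y v, fB z v)` -/
noncomputable def c5map (G2 : Matrix (Fin b) (Fin b) F) (y z : Fin b → F) :
    (Fin b → F) →ₗ[F] (Fin 2 → F) where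
  toFun v := ![fB G2 y v, fB G2 z v]
  map_add' v w := by
    funext i
    fin_cases i
    · simp [fB_add_right]
    · simp [fB_add_right]
  map_smul' c v := by
    funext i
    fin_cases i
    · simp [fB_smul_right]
    · simp [fB_smul_right]

lemma mem_ker_c5map (y z v : Fin b → F) :
    v ∈ LinearMap.ker (c5map G2 y z) ↔ fB G2 y v = 0 ∧ fB G2 z v = 0 := by
  rw [LinearMap.mem_ker]
  constructor
  · intro h
    have h0 := congrFun h 0
    have h1 := congrFun h 1
    exact ⟨by simpa [c5map] using h0, by simpa [c5map] using h1⟩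
  · rintro ⟨h0, h1⟩
    funext i
    fin_cases i
    · simpa [c5map] using h0
    · simpa [c5map] using h1

/-- `dim L^⊥ ≥ b - 2` -/
lemma finrank_ker_c5map (y z : Fin b → F) :
    b ≤ finrank F (LinearMap.ker (c5map G2 y z)) + 2 := by
  have h1 := LinearMap.finrank_range_add_finrank_ker (c5map G2 y z)
  rw [Module.finrank_fin_fun] at h1
  have h2 : finrank F (LinearMap.range (c5map G2 y z)) ≤ 2 := by
    have := Submodule.finrank_le (LinearMap.range (c5map G2 y z))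
    rwa [Module.finrank_fin_fun] at this
  omega

lemma finrank_span_pair_le (y z : Fin b → F) :
    finrank F (Submodule.span F ({y, z} : Set (Fin b → F))) ≤ 2 := by
  classical
  have h := finrank_span_le_card (R := F) ({y, z} : Set (Fin b → F))
  have h2 : ({y, z} : Set (Fin b → F)).toFinset.card ≤ 2 := by
    have : ({y, z} : Set (Fin b → F)).toFinset = {y, z} := by
      ext w
      simp
    rw [this]
    exact Finset.card_le_two
  exact h.trans h2

lemma c5_pt_neg_right (x : Fin a → F) (u : Fin b → F) : pt x (-u) = -pt x u := by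
  funext p
  simp [pt]

lemma c5_pt_neg_left (x : Fin a → F) (u : Fin b → F) : pt (-x) u = -pt x u := by
  funext p
  simp [pt]

/-- core: if `x₁ ⊗ u` (`x₁ ≠ 0`, `u ⊥ L`) is negated by `α ⊗ β` then `u ∈ L` -/
lemma c5_core (h : Ctx a b G1 G2) {y z : Fin b → F}
    (P : Submodule F (Idx a b → F))
    (hPR : P ⊓ perpW G1 G2 (WL y z) ≤ (WL y z : Submodule F (Idx a b → F)))
    (g : GL (Idx a b) F)
    (hP : ∀ v, mv g v - v ∈ P)
    (x₁ : Fin a → F) (hx₁ : x₁ ≠ 0) (u : Fin b → F) (huy : fB G2 y u = 0) (huz : fB G2 z u = 0)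
    (hneg : mv g (pt x₁ u) = -pt x₁ u) :
    u ∈ Submodule.span F ({y, z} : Set (Fin b → F)) := by
  have h2 := h.two
  have hwP : pt x₁ u ∈ P := by
    have h1 := hP (pt x₁ u)
    rw [hneg] at h1
    have h3 : pt x₁ u = (-(2 : F)⁻¹) • (-pt x₁ u - pt x₁ u) := by
      rw [show -pt x₁ u - pt x₁ u = (-(2 : F)) • pt x₁ u by
        rw [neg_smul, two_smul]; abel, smul_smul]
      rw [show -(2 : F)⁻¹ * -2 = 1 by field_simp, one_smul]
    rw [h3]
    exact P.smul_mem _ h1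
  have hwR : pt x₁ u ∈ perpW G1 G2 (WL y z) := by
    rw [mem_perpW]
    intro r hr
    obtain ⟨x₁', x₂', rfl⟩ := (mem_WL_iff y z r).1 hr
    rw [Cfsg.Agent.Lib.Helper25.OT.fV_add_right, Cfsg.Agent.Lib.Helper25.OT.fV_pt,
      Cfsg.Agent.Lib.Helper25.OT.fV_pt, fB_comm G2 h.symm2 u y, fB_comm G2 h.symm2 u z, huy, huz,
      mul_zero, mul_zero, add_zero]
  have h4 : pt x₁ u ∈ (WL y z : Submodule F (Idx a b → F)) := hPR ⟨hwP, hwR⟩
  rw [Cfsg.Agent.Lib.Helper2.OTGLeaf.WL_eq_AT] at h4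
  exact Cfsg.Agent.Lib.Helper2.OTGLeaf.mem_of_pt_mem_AT hx₁ h4

/-- (C5) the `A`-factor of `b₁` is `±1`.  `P` plays `R ⊔ W'`. -/
theorem alpha_pm_one (h : Ctx a b G1 G2) {y z : Fin b → F} (hL : TSL G2 y z)
    (P : Submodule F (Idx a b → F))
    (hPR : P ⊓ perpW G1 G2 (WL y z) ≤ (WL y z : Submodule F (Idx a b → F)))
    (α : GL (Fin a) F) (β : GL (Fin b) F) (hα : α ^ 2 = 1) (hβ : β ^ 2 = 1)
    (hβi : ∀ v v' : Fin b → F, fB G2 ((β : Matrix (Fin b) (Fin b) F) *ᵥ v)
      ((β : Matrix (Fin b) (Fin b) F) *ᵥ v') = fB G2 v v')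
    (hstab : ∀ v ∈ (WL y z : Submodule F (Idx a b → F)),
      mv (kel α β) v ∈ (WL y z : Submodule F (Idx a b → F)))
    (hP : ∀ v, mv (kel α β : GL (Idx a b) F) v - v ∈ P) :
    α = 1 ∨ α = -1 := by
  classical
  have h2 := h.two
  have hαα : ∀ x : Fin a → F, (α : Matrix (Fin a) (Fin a) F) *ᵥ
      ((α : Matrix (Fin a) (Fin a) F) *ᵥ x) = x := by
    intro x
    have h1 : (α : Matrix (Fin a) (Fin a) F) * (α : Matrix (Fin a) (Fin a) F) = 1 := by
      have := congrArg Units.val hα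
      simpa [pow_two] using this
    rw [Matrix.mulVec_mulVec, h1, Matrix.one_mulVec]
  have hββ : ∀ v : Fin b → F, (β : Matrix (Fin b) (Fin b) F) *ᵥ
      ((β : Matrix (Fin b) (Fin b) F) *ᵥ v) = v := by
    intro v
    have h1 : (β : Matrix (Fin b) (Fin b) F) * (β : Matrix (Fin b) (Fin b) F) = 1 := by
      have := congrArg Units.val hβ
      simpa [pow_two] using this
    rw [Matrix.mulVec_mulVec, h1, Matrix.one_mulVec]
  have hαne : ∀ x : Fin a → F, x ≠ 0 → (α : Matrix (Fin a) (Fin a) F) *ᵥ x ≠ 0 := by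
    intro x hx h0
    apply hx
    rw [← hαα x, h0, Matrix.mulVec_zero]
  -- a nonzero vector of `A`
  have ha0 : 0 < a := by have := h.ha; omega
  set x0 : Fin a → F := Pi.single (⟨0, ha0⟩ : Fin a) 1 with hx0def
  have hx0 : x0 ≠ 0 := by
    intro h0
    have := congrFun h0 ⟨0, ha0⟩
    simp [x0] at this
  -- `β L ⊆ L`
  have hβgen : ∀ l : Fin b → F, pt x0 l ∈ (WL y z : Submodule F (Idx a b → F)) →
      (β : Matrix (Fin b) (Fin b) F) *ᵥ l ∈ Submodule.span F ({y, z} : Set (Fin b → F)) := by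
    intro l hl
    have h1 := hstab _ hl
    rw [show mv (kel α β) (pt x0 l) = pt ((α : Matrix (Fin a) (Fin a) F) *ᵥ x0)
      ((β : Matrix (Fin b) (Fin b) F) *ᵥ l) from kel_mulVec_pt α β x0 l] at h1
    rw [Cfsg.Agent.Lib.Helper2.OTGLeaf.WL_eq_AT] at h1
    exact Cfsg.Agent.Lib.Helper2.OTGLeaf.mem_of_pt_mem_AT (hαne x0 hx0) h1
  have hβy : (β : Matrix (Fin b) (Fin b) F) *ᵥ y ∈ Submodule.span F ({y, z} : Set (Fin b → F)) :=
    hβgen y (pt_left_mem_WL x0 y z)
  have hβz : (β : Matrix (Fin b) (Fin b) F) *ᵥ z ∈ Submodule.span F ({y, z} : Set (Fin b → F)) :=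
    hβgen z (pt_right_mem_WL x0 y z)
  -- `L^⊥` is `β`-stable
  have hperp : ∀ l ∈ Submodule.span F ({y, z} : Set (Fin b → F)), ∀ v : Fin b → F,
      fB G2 y v = 0 → fB G2 z v = 0 → fB G2 l v = 0 := by
    intro l hl v hy hz
    obtain ⟨s, t, rfl⟩ := Submodule.mem_span_pair.1 hl
    rw [fB_add_left, fB_smul_left, fB_smul_left, hy, hz, mul_zero, mul_zero, add_zero]
  have hperpβ : ∀ v : Fin b → F, fB G2 y v = 0 → fB G2 z v = 0 →
      fB G2 y ((β : Matrix (Fin b) (Fin b) F) *ᵥ v) = 0 ∧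
      fB G2 z ((β : Matrix (Fin b) (Fin b) F) *ᵥ v) = 0 := by
    intro v hy hz
    constructor
    · rw [← hββ y, hβi]
      exact hperp _ hβy v hy hz
    · rw [← hββ z, hβi]
      exact hperp _ hβz v hy hz
  by_contra hcon
  push Not at hcon
  obtain ⟨hne1, hne2⟩ := hcon
  -- eigenvectors
  have hex1 : ∃ x : Fin a → F, x + (α : Matrix (Fin a) (Fin a) F) *ᵥ x ≠ 0 := by
    by_contra hall
    push Not at hall
    apply hne2
    apply gl_ext
    intro x
    have h1 := hall x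
    show (α : Matrix (Fin a) (Fin a) F) *ᵥ x = ((-1 : GL (Fin a) F) : Matrix (Fin a) (Fin a) F) *ᵥ x
    rw [Units.val_neg, Units.val_one, Matrix.neg_mulVec, Matrix.one_mulVec]
    exact (eq_neg_of_add_eq_zero_right h1)
  have hex2 : ∃ x : Fin a → F, x - (α : Matrix (Fin a) (Fin a) F) *ᵥ x ≠ 0 := by
    by_contra hall
    push Not at hall
    apply hne1
    apply gl_ext
    intro x
    have h1 := hall x
    show (α : Matrix (Fin a) (Fin a) F) *ᵥ x = ((1 : GL (Fin a) F) : Matrix (Fin a) (Fin a) F) *ᵥ x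
    rw [Units.val_one, Matrix.one_mulVec]
    exact (sub_eq_zero.1 h1).symm
  obtain ⟨x, hxp⟩ := hex1
  obtain ⟨x', hxm⟩ := hex2
  have hαp : (α : Matrix (Fin a) (Fin a) F) *ᵥ (x + (α : Matrix (Fin a) (Fin a) F) *ᵥ x) =
      x + (α : Matrix (Fin a) (Fin a) F) *ᵥ x := by
    rw [Matrix.mulVec_add, hαα, add_comm]
  have hαm : (α : Matrix (Fin a) (Fin a) F) *ᵥ (x' - (α : Matrix (Fin a) (Fin a) F) *ᵥ x') =
      -(x' - (α : Matrix (Fin a) (Fin a) F) *ᵥ x') := by
    rw [Matrix.mulVec_sub, hαα, neg_sub]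
  -- `L^⊥ ≤ L`
  have hkerle : LinearMap.ker (c5map G2 y z) ≤ Submodule.span F ({y, z} : Set (Fin b → F)) := by
    intro v hv
    rw [mem_ker_c5map] at hv
    obtain ⟨hvy, hvz⟩ := hv
    obtain ⟨hby, hbz⟩ := hperpβ v hvy hvz
    -- `v₋ = v - βv`
    have hm : v - (β : Matrix (Fin b) (Fin b) F) *ᵥ v ∈
        Submodule.span F ({y, z} : Set (Fin b → F)) := by
      refine c5_core h P hPR (kel α β) hP _ hxp _ ?_ ?_ ?_
      · rw [sub_eq_add_neg, fB_add_right, ← neg_one_smul F, fB_smul_right, hvy, hby]; ring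
      · rw [sub_eq_add_neg, fB_add_right, ← neg_one_smul F, fB_smul_right, hvz, hbz]; ring
      · rw [show mv (kel α β) (pt (x + (α : Matrix (Fin a) (Fin a) F) *ᵥ x)
          (v - (β : Matrix (Fin b) (Fin b) F) *ᵥ v)) = pt ((α : Matrix (Fin a) (Fin a) F) *ᵥ
            (x + (α : Matrix (Fin a) (Fin a) F) *ᵥ x))
          ((β : Matrix (Fin b) (Fin b) F) *ᵥ (v - (β : Matrix (Fin b) (Fin b) F) *ᵥ v)) from
          kel_mulVec_pt α β _ _]
        rw [hαp, Matrix.mulVec_sub, hββ, ← c5_pt_neg_right, neg_sub]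
    have hp : v + (β : Matrix (Fin b) (Fin b) F) *ᵥ v ∈
        Submodule.span F ({y, z} : Set (Fin b → F)) := by
      refine c5_core h P hPR (kel α β) hP _ hxm _ ?_ ?_ ?_
      · rw [fB_add_right, hvy, hby, add_zero]
      · rw [fB_add_right, hvz, hbz, add_zero]
      · rw [show mv (kel α β) (pt (x' - (α : Matrix (Fin a) (Fin a) F) *ᵥ x')
          (v + (β : Matrix (Fin b) (Fin b) F) *ᵥ v)) = pt ((α : Matrix (Fin a) (Fin a) F) *ᵥ
            (x' - (α : Matrix (Fin a) (Fin a) F) *ᵥ x'))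
          ((β : Matrix (Fin b) (Fin b) F) *ᵥ (v + (β : Matrix (Fin b) (Fin b) F) *ᵥ v)) from
          kel_mulVec_pt α β _ _]
        rw [hαm, Matrix.mulVec_add, hββ, c5_pt_neg_left, add_comm]
    have hv2 : v = (2 : F)⁻¹ • ((v + (β : Matrix (Fin b) (Fin b) F) *ᵥ v) +
        (v - (β : Matrix (Fin b) (Fin b) F) *ᵥ v)) := by
      rw [show (v + (β : Matrix (Fin b) (Fin b) F) *ᵥ v) +
        (v - (β : Matrix (Fin b) (Fin b) F) *ᵥ v) = (2 : F) • v by rw [two_smul]; abel,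
        smul_smul, inv_mul_cancel₀ h2, one_smul]
    rw [hv2]
    exact Submodule.smul_mem _ _ (Submodule.add_mem _ hp hm)
  have h5 := Submodule.finrank_mono hkerle
  have h6 := finrank_ker_c5map (G2 := G2) y z
  have h7 := finrank_span_pair_le (F := F) y z
  have h8 := h.hb
  omega

end Cfsg.Agent.Lib.Helper3.OTGLeaf
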