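import Mathlib
import Cfsg.Prelude.Def_ClassicalGeometry
import Cfsg.Prelude.Def_GeometricClasses
import Cfsg.Agent.Lib.Helper2.OTGDefs
import Cfsg.Agent.Lib.Helper2.OTGW
import Cfsg.Agent.Lib.Helper2.OTGN

/-!
S5681 / S5709 PART (GA'), leaf (C6) `cheap_trick`: if `W' = g (A⊗L')` contains `A ⊗ y₀` for some
`0 ≠ y₀ ∈ L` then `g ∈ KG`.
-/

set_option autoImplicit false
set_option linter.unusedSectionVars false
set_option linter.unusedVariables false

namespace Cfsg.Agent.Lib.Helper3.OTGLeaf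
open Matrix Module
open Cfsg.Agent.Lib.Helper25.Tens Cfsg.Agent.Lib.Helper19.OSub Cfsg.Agent.Lib.Helper25.OT
open Cfsg.Agent.Lib.Helper2.SOT (fB gim mem_gim fB_add_left fB_add_right fB_smul_left fB_smul_right
  fB_comm)
open Cfsg.Agent.Lib.Helper2.OTG
open scoped Kronecker

variable {F : Type*} [Field F] [Fintype F] {a b : ℕ} {G1 : Matrix (Fin a) (Fin a) F}
  {G2 : Matrix (Fin b) (Fin b) F} {M : Subgroup (GL (Idx a b) F)}

/-- if `s c_y + t c_z = 0` and `y₀ = s y + t z ≠ 0` then `c_y ⊗ z - c_z ⊗ y = x ⊗ y₀` for some `x` -/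
lemma c6_exists_pt (y z : Fin b → F) (s t : F) (hy₀ : s • y + t • z ≠ 0) (cy cz : Fin a → F)
    (hc : s • cy + t • cz = 0) :
    ∃ x : Fin a → F, pt cy z - pt cz y = pt x (s • y + t • z) := by
  by_cases hs : s = 0
  · have ht : t ≠ 0 := by
      rintro rfl
      apply hy₀
      rw [hs, zero_smul, zero_smul, add_zero]
    have hcz : cz = 0 := by
      rw [hs, zero_smul, zero_add] at hc
      exact (smul_eq_zero.1 hc).resolve_left ht
    refine ⟨t⁻¹ • cy, ?_⟩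
    rw [hcz, pt_zero_left, sub_zero, hs, zero_smul, zero_add, pt_smul_left, pt_smul_right, smul_smul,
      inv_mul_cancel₀ ht, one_smul]
  · have hcy : cy = (-(s⁻¹ * t)) • cz := by
      have h1 : s • cy = -(t • cz) := eq_neg_of_add_eq_zero_left hc
      have h2 : cy = s⁻¹ • (s • cy) := by rw [smul_smul, inv_mul_cancel₀ hs, one_smul]
      rw [h2, h1, smul_neg, smul_smul, neg_smul]
    refine ⟨(-s⁻¹) • cz, ?_⟩
    rw [hcy, pt_smul_left, pt_smul_left, pt_add_right, pt_smul_right, pt_smul_right, smul_add,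
      smul_smul, smul_smul]
    rw [show -s⁻¹ * s = -1 by field_simp, show -s⁻¹ * t = -(s⁻¹ * t) by ring, neg_one_smul]
    abel

/-- (C6) the cheap trick -/
theorem cheap_trick (h : MCtx a b G1 G2 M)
    (hroot : ∀ y z : Fin b → F, TSL G2 y z → ∀ c : F, (kB G2 y z c : GL (Idx a b) F) ∈ M)
    (h1 : L1' G2 M) (h2 : L2' G2 M) {y z y' z' : Fin b → F} (hL : TSL G2 y z)
    (hL' : TSL G2 y' z') (g : GL (Idx a b) F) (hg : g ∈ M) (y₀ : Fin b → F) (hy₀ : y₀ ≠ 0)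
    (hy₀L : y₀ ∈ Submodule.span F {y, z})
    (hsub : ∀ x : Fin a → F, pt x y₀ ∈ gim g (WL y' z' : Submodule F (Idx a b → F))) :
    g ∈ KG a b F := by
  have hc : Ctx a b G1 G2 := h.toCtx
  have hgO : g ∈ OV G1 G2 := OmV_le_OV _ _ (h.le_om hg)
  obtain ⟨s, t, rfl⟩ := Submodule.mem_span_pair.1 hy₀L
  -- `W'` is totally singular
  have hW'ts : gim g (WL y' z' : Submodule F (Idx a b → F)) ≤ perpW G1 G2 (gim g (WL y' z')) := by
    intro w hw
    obtain ⟨u, hu, rfl⟩ := mem_gim.1 hw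
    exact (Cfsg.Agent.Lib.Helper2.OTGLeaf.mem_perpW_gim hc g hgO _ u).2
      (Cfsg.Agent.Lib.Helper2.OTGLeaf.WL_isotropic hc hL' hu)
  -- `N_L W' ⊆ W'`
  have hNW : ∀ w ∈ gim g (WL y' z' : Submodule F (Idx a b → F)),
      (NL G2 y z : Matrix (Idx a b) (Idx a b) F) *ᵥ w ∈
        gim g (WL y' z' : Submodule F (Idx a b → F)) := by
    intro w hw
    have hct : ct (G2 *ᵥ (s • y + t • z)) w = 0 :=
      Cfsg.Agent.Lib.Helper2.OTGLeaf.ct_eq_zero_of_perp hc w _ (fun x => hW'ts hw _ (hsub x))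
    rw [Matrix.mulVec_add, Matrix.mulVec_smul, Matrix.mulVec_smul, ct_add_left, ct_smul_left,
      ct_smul_left] at hct
    obtain ⟨x, hx⟩ := c6_exists_pt y z s t hy₀ _ _ hct
    rw [Cfsg.Agent.Lib.Helper2.OTGLeaf.NL_mulVec hc hL, hx]
    exact hsub x
  -- `X_L` stabilises `W'`
  have hkW : ∀ c : F, ∀ w ∈ gim g (WL y' z' : Submodule F (Idx a b → F)),
      mv (kB G2 y z c : GL (Idx a b) F) w ∈ gim g (WL y' z' : Submodule F (Idx a b → F)) := by
    intro c w hw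
    show ((kB G2 y z c : GL (Idx a b) F) : Matrix (Idx a b) (Idx a b) F) *ᵥ w ∈ _
    rw [Cfsg.Agent.Lib.Helper2.OTGLeaf.kB_val hc hL, Matrix.add_mulVec, Matrix.one_mulVec,
      Matrix.smul_mulVec]
    exact Submodule.add_mem _ hw (Submodule.smul_mem _ _ (hNW w hw))
  apply h2 y z hL g hg
  intro c
  apply h1 y' z' hL' _ (M.mul_mem (M.mul_mem (M.inv_mem hg) (hroot y z hL c)) hg)
  intro v hv
  rw [mv_mul, mv_mul]
  have h3 : mv g v ∈ gim g (WL y' z' : Submodule F (Idx a b → F)) := mem_gim.2 ⟨v, hv, rfl⟩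
  obtain ⟨u, hu, hu'⟩ := mem_gim.1 (hkW c _ h3)
  rw [← hu', mv_inv_mv]
  exact hu

end Cfsg.Agent.Lib.Helper3.OTGLeaf
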